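import Cfsg.Agent.Lib.ZassSuz.Final
import Cfsg.Agent.S0344
import Cfsg.Agent.S0731
import Cfsg.Agent.S0727
import Cfsg.Agent.S0307

/-!
# Simple Zassenhaus groups
-/

set_option autoImplicit false
set_option linter.all false

namespace Cfsg.Agent.ZassSuz

open MulAction Cfsg.Agent.PermGp.ZEven Cfsg.Agent.CohExt Cfsg.Agent.ZassOdd.Main

universe u v

variable {G : Type u} {Ω : Type v} [Group G] [MulAction G Ω] [Finite G] [Fintype Ω] {a b : Ω} {F : Subgroup G}

/-- The two-point stabiliser acting on the kernel. -/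
noncomputable def stabConj (hF : ZKer a F) (h : ↥(stabilizer G a ⊓ stabilizer G b)) : F ≃* F where
  toFun u := ⟨(h : G) * u * (h : G)⁻¹, hF.conj h (Subgroup.mem_inf.mp h.2).1 u u.2⟩
  invFun u := ⟨(h : G)⁻¹ * u * (h : G)⁻¹⁻¹, hF.conj _ (Subgroup.mem_inf.mp (inv_mem h.2)).1 u u.2⟩
  left_inv u := Subtype.ext (by show (h : G)⁻¹ * ((h : G) * u * (h : G)⁻¹) * (h : G)⁻¹⁻¹ = u; group)
  right_inv u := Subtype.ext (by show (h : G) * ((h : G)⁻¹ * u * (h : G)⁻¹⁻¹) * (h : G)⁻¹ = u; group)
  map_mul' u v := Subtype.ext (by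
    show (h : G) * ((u : G) * v) * (h : G)⁻¹ = h * u * (h : G)⁻¹ * (h * v * (h : G)⁻¹); group)

/-- The two-point stabiliser order divides the number of nontrivial elements of a characteristic subgroup. -/
theorem dvd_char (Z : ZGrp G Ω) (hab : a ≠ b) (hF : ZKer a F) (R : Subgroup F) [hR : R.Characteristic] :
    Nat.card ↥(stabilizer G a ⊓ stabilizer G b) ∣ Nat.card R - 1 := by
  classical
  haveI := Fintype.ofFinite G
  let E : Subgroup G := stabilizer G a ⊓ stabilizer G b
  let X := {u : F // u ∈ R ∧ u ≠ 1}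
  letI act : MulAction E X :=
    { smul := fun h u => ⟨stabConj hF h u.1, by
          exact (SetLike.ext_iff.mp (hR.fixed (stabConj hF h)) u.1).mpr u.2.1, fun e1 => u.2.2 ((stabConj hF h).map_eq_one_iff.mp e1)⟩
      one_smul := fun u => Subtype.ext (Subtype.ext (by
        show ((1 : E) : G) * (u.1 : G) * ((1 : E) : G)⁻¹ = u.1
        simp))
      mul_smul := fun h k u => Subtype.ext (Subtype.ext (by
        show ((h * k : E) : G) * (u.1 : G) * ((h * k : E) : G)⁻¹ = h * ((k : G) * u.1 * (k : G)⁻¹) * (h : G)⁻¹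
        push_cast; group)) }
  have hfree : ∀ (h : E) (u : X), h • u = u → h = 1 := fun h u e1 =>
    Subtype.ext (hF.fpf Z hab (Subgroup.mem_inf.mp h.2).1 (Subgroup.mem_inf.mp h.2).2 u.1.2
      (fun e2 => u.2.2 (Subtype.ext e2)) (congrArg (fun w : X => ((w.1 : F) : G)) e1))
  have h1 : Nat.card E ∣ Nat.card X := ZassOdd.Main.card_dvd_of_free (E := E) (X := X) hfree
  rwa [Nat.card_congr ((Equiv.subtypeSubtypeEquivSubtypeInter (· ∈ R) (· ≠ (1 : F))).symm),
    Nat.card_congr (Equiv.subtypeEquivRight (q := fun x : R => x ≠ 1)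
      (fun x => not_congr OneMemClass.coe_eq_one)),
    Nat.card_eq_fintype_card (α := {x : R // x ≠ 1}), Fintype.card_subtype_compl, Fintype.card_subtype_eq,
    ← Nat.card_eq_fintype_card] at h1

/-- A small kernel is abelian. -/
theorem comm_of_small (hZ : Cfsg.IsZassenhausGroup G Ω) [IsSimpleGroup G] (hab : a ≠ b) (hF : ZKer a F)
    (hodd : Odd (Nat.card ↥(stabilizer G a ⊓ stabilizer G b)))
    (hsmall : Nat.card F ≤ 2 * Nat.card ↥(stabilizer G a ⊓ stabilizer G b) + 1) : IsMulCommutative F := by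
  classical
  haveI := Fintype.ofFinite G
  set e := Nat.card ↥(stabilizer G a ⊓ stabilizer G b) with he
  have Z := zgrp_of_zassenhaus hZ
  have S := ZassOdd.setup hZ hab rfl hodd
  have D : ZassOdd.Main.Data G Ω a b F := ⟨hF, Z, hZ, hab, hodd,
    fun s hs hs' h hh => (ZassOdd.swap_inv S hab hs hs' hh).2.2⟩
  set L := Subgroup.normalizer (F : Set G) with hLdef
  haveI : Fintype L := Fintype.ofFinite L
  have hL : ∀ g : G, g ∈ L ↔ g • a = a := normalizer_mem D
  haveI := normal_sub D L hL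
  have he2 : 2 ≤ e := Z.stab_pos hab
  have hn := hF.card_add_one hab
  have hdvd : e ∣ Nat.card F - 1 := by
    have h := ZassSharp.card_dvd Z hab
    rwa [show Fintype.card Ω - 2 = Nat.card F - 1 by omega] at h
  have h2F : 2 ≤ Nat.card F := by
    obtain ⟨c, hca, hcb⟩ := Z.exists_third a b
    have := Finset.card_le_univ ({c, a, b} : Finset Ω)
    rw [Finset.card_eq_three.mpr ⟨c, a, b, hca, hcb, hab, rfl⟩] at this
    omega
  haveI : Group.IsNilpotent F := by
    haveI := OddChar.frob_nilpotent (F.subgroupOf L) (hC_L D L hL)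
      (fun e1 => by
        have h := SibleyMain.card_eq F
        rw [← hLdef, e1, Subgroup.card_bot] at h
        omega)
      (fun e1 => by
        have h := index_eq D L hL
        rw [e1, Subgroup.index_top] at h
        omega)
    exact Group.nilpotent_of_mulEquiv (Subgroup.subgroupOfEquivOfLe (le_L D L hL))
  haveI : Nontrivial F := Finite.one_lt_card_iff_nontrivial.mp (by omega)
  haveI : Nontrivial (Subgroup.center F) :=
    (Subgroup.nontrivial_iff_ne_bot _).mpr (Group.IsNilpotent.center_ne_bot _)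
  have hc2 : 2 ≤ Nat.card (Subgroup.center F) := Finite.one_lt_card
  have hcd : e ∣ Nat.card (Subgroup.center F) - 1 := dvd_char Z hab hF (Subgroup.center F)
  have hcF : Nat.card (Subgroup.center F) ∣ Nat.card F := Subgroup.card_subgroup_dvd_card _
  have hle := Nat.le_of_dvd (by omega) hcd
  have heq : Nat.card (Subgroup.center F) = Nat.card F := by
    obtain ⟨k, hk⟩ := hcF
    rcases k with _ | _ | k
    · omega
    · omega
    · have : 2 * Nat.card (Subgroup.center F) ≤ Nat.card F := by rw [hk]; nlinarith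
      omega
  exact ⟨⟨fun x y => Subgroup.mem_center_iff.mp
    (Subgroup.eq_top_of_card_eq _ heq ▸ Subgroup.mem_top y) x⟩⟩

omit [Finite G] in
/-- In characteristic two `PGL = PSL`. -/
theorem pgl_iso_psl {K : Type} [Field K] [Fintype K] {f : ℕ} (hf : 1 ≤ f) (hK : Fintype.card K = 2 ^ f) :
    Nonempty (Matrix.ProjGenLinGroup (Fin 2) K ≃* Matrix.ProjectiveSpecialLinearGroup (Fin 2) K) := by
  obtain ⟨g, -, hker⟩ := S0307.result (F := K) rfl 2 (by norm_num)
  have h1 : Nat.gcd 2 (Fintype.card K - 1) = 1 := by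
    rw [hK]
    have : 2 ∣ 2 ^ f := dvd_pow_self 2 (by omega)
    have := Nat.one_le_two_pow (n := f)
    exact Nat.coprime_two_left.2 (Nat.odd_iff.2 (by omega))
  have htop : (Matrix.ProjectiveSpecialLinearGroup.toPGL :
      Matrix.ProjectiveSpecialLinearGroup (Fin 2) K →* Matrix.ProjGenLinGroup (Fin 2) K).range = ⊤ := by
    rw [← hker]
    haveI : Subsingleton (Multiplicative (ZMod (Nat.gcd 2 (Fintype.card K - 1)))) := by
      rw [h1]; infer_instance
    exact top_le_iff.1 fun x _ => Subsingleton.elim _ _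
  exact ⟨(MulEquiv.ofBijective _
    ⟨Matrix.ProjectiveSpecialLinearGroup.toPGL_injective, MonoidHom.range_eq_top.1 htop⟩).symm⟩

/-- A sharply three-transitive action with odd two-point stabilisers is that of a projective line in characteristic two. -/
theorem psl_of_sharp (hZ : Cfsg.IsZassenhausGroup G Ω) (hab : a ≠ b) (hF : ZKer a F)
    (hodd : Odd (Nat.card ↥(stabilizer G a ⊓ stabilizer G b)))
    (hd : Nat.card ↥(stabilizer G a ⊓ stabilizer G b) = Fintype.card Ω - 2) :
    ∃ (K : Type) (_ : Field K) (_ : Fintype K), Nonempty (G ≃* Matrix.ProjectiveSpecialLinearGroup (Fin 2) K) := by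
  classical
  haveI := Fintype.ofFinite G
  haveI : Fact (Nat.Prime 2) := ⟨Nat.prime_two⟩
  set E := stabilizer G a ⊓ stabilizer G b with hE
  have Z := zgrp_of_zassenhaus hZ
  have hn := hF.card_add_one hab
  have he2 : 2 ≤ Nat.card E := Z.stab_pos hab
  have hev : Even (Nat.card F) := by
    obtain ⟨m, hm⟩ := hodd
    exact ⟨m + 1, by omega⟩
  obtain ⟨u, hu⟩ := exists_prime_orderOf_dvd_card' (G := F) 2 hev.two_dvd
  have hu1 : u ≠ 1 := fun e => by rw [e, orderOf_one] at hu; omega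
  have h2 : IsPGroup 2 F := by
    intro x
    by_cases hx : x = 1
    · exact ⟨0, by rw [hx, one_pow]⟩
    let f : E → {w : F // w ≠ 1} := fun h => ⟨stabConj hF h u, fun e => hu1 ((stabConj hF h).map_eq_one_iff.mp e)⟩
    have hinj : Function.Injective f := by
      intro h k e
      have e' : (h : G) * u * (h : G)⁻¹ = (k : G) * u * (k : G)⁻¹ := congrArg (fun w : {w : F // w ≠ 1} => ((w.1 : F) : G)) e
      have hm := Subgroup.mem_inf.mp (E.mul_mem (E.inv_mem k.2) h.2)
      refine Subtype.ext (inv_mul_eq_one.mp (hF.fpf Z hab hm.1 hm.2 u.2 (fun e1 => hu1 (Subtype.ext e1)) ?_)).symm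
      calc (k : G)⁻¹ * h * u * ((k : G)⁻¹ * h)⁻¹ = (k : G)⁻¹ * ((h : G) * u * (h : G)⁻¹) * k := by group
        _ = u := by rw [e']; group
    have hcard : Nat.card {w : F // w ≠ 1} = Nat.card E := by
      rw [Nat.card_eq_fintype_card, Fintype.card_subtype_compl, Fintype.card_subtype_eq, ← Nat.card_eq_fintype_card]
      omega
    obtain ⟨h, hh⟩ := (hinj.bijective_of_nat_card_le hcard.le).surjective ⟨x, hx⟩
    have hx' : stabConj hF h u = x := congrArg Subtype.val hh
    refine ⟨1, ?_⟩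
    rw [pow_one, ← hx', ← map_pow, show u ^ 2 = 1 by rw [← hu, pow_orderOf_eq_one], map_one]
  obtain ⟨f, hf⟩ := h2.exists_card_eq
  have hf1 : 1 ≤ f := by
    by_contra h0
    obtain rfl : f = 0 := by omega
    rw [pow_zero] at hf
    omega
  obtain ⟨h3, hsharp⟩ := ZassSharp.sharp Z hab hd
  haveI := hZ.1
  let φ : G →* Equiv.Perm Ω := MulAction.toPermHom G Ω
  have hφ : Function.Injective φ := MulAction.toPerm_injective
  let ι : G ≃* φ.range := MonoidHom.ofInjective hφ
  have hι : ∀ (g : G) (x : Ω), ι g • x = g • x := fun _ _ => rfl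
  have h3' : IsMultiplyPretransitive φ.range Ω 3 := ⟨fun t w => by
    obtain ⟨g, hg⟩ := h3.exists_smul_eq t w
    exact ⟨ι g, Function.Embedding.ext fun i => (hι g (t i)).trans (DFunLike.congr_fun hg i)⟩⟩
  have hsharp' : ∀ t : Fin 3 ↪ Ω, stabilizer φ.range t = ⊥ := fun t => by
    rw [Subgroup.eq_bot_iff_forall]
    intro g hg
    obtain ⟨x, rfl⟩ := ι.surjective g
    have hx : x ∈ stabilizer G t := mem_stabilizer_iff.mpr (Function.Embedding.ext fun i =>
      (hι x (t i)).symm.trans (DFunLike.congr_fun (mem_stabilizer_iff.mp hg) i))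
    rw [hsharp t, Subgroup.mem_bot] at hx
    rw [hx, map_one]
  obtain ⟨K, iK, iF, hK, ⟨ψ⟩⟩ := S0727.result hf1 (show Fintype.card Ω = 2 ^ f + 1 by omega) φ.range h3' hsharp'
  obtain ⟨χ⟩ := pgl_iso_psl hf1 hK
  exact ⟨K, iK, iF, ⟨(ι.trans ψ).trans χ⟩⟩

/-- Classification of the simple Zassenhaus groups. -/
theorem classify (hZ : Cfsg.IsZassenhausGroup G Ω) [IsSimpleGroup G] :
    (∃ (K : Type) (_ : Field K) (_ : Fintype K), Nonempty (G ≃* Matrix.ProjectiveSpecialLinearGroup (Fin 2) K)) ∨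
      Cfsg.IsSuzuki G := by
  classical
  haveI := hZ.1
  have Z := zgrp_of_zassenhaus hZ
  obtain ⟨g₀, hg₀, a, b, hab, -, -⟩ := hZ.2.2.2.1
  rcases Nat.even_or_odd (Nat.card ↥(stabilizer G a ⊓ stabilizer G b)) with hev | hodd
  · obtain ⟨K, iK, iF, -, hiso⟩ := S0344.result hZ hab hev
    exact Or.inl ⟨K, iK, iF, hiso⟩
  obtain ⟨F, hF⟩ := exists_zker Z hab
  by_cases hbig : 2 * Nat.card ↥(stabilizer G a ⊓ stabilizer G b) + 1 < Nat.card F
  · obtain ⟨h2, hna, -⟩ := ZassOdd.FeitBound.main _ rfl hZ hab hF hodd hbig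
    exact Or.inr (is_suzuki hZ hab hF h2 hna)
  push Not at hbig
  have hFab := comm_of_small hZ hab hF hodd hbig
  have hreg : ∀ y z : Ω, y ≠ a → z ≠ a → ∃! u : F, (u : G) • y = z := by
    intro y z hy hz
    obtain ⟨u, hu, huy⟩ := hF.exists_eq y z hy hz
    refine ⟨⟨u, hu⟩, huy, fun w hw => Subtype.ext ?_⟩
    have := hF.semi _ (mul_mem (inv_mem hu) w.2) y hy (by rw [mul_smul, hw, ← huy, inv_smul_smul])
    exact (inv_mul_eq_one.mp this).symm
  have hFn : (F.subgroupOf (stabilizer G a)).Normal := ⟨fun u hu g => hF.conj g g.2 u hu⟩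
  rcases S0731.result hZ a F (fun u hu => hF.fix u hu) hFn hFab hreg with ⟨h3, -⟩ | ⟨K, iK, iF, -, hiso⟩
  swap
  · exact Or.inl ⟨K, iK, iF, hiso⟩
  refine Or.inl (psl_of_sharp hZ hab hF hodd ?_)
  set E := stabilizer G a ⊓ stabilizer G b with hE
  obtain ⟨c, hca, hcb⟩ := Z.exists_third a b
  let f : E → {w : Ω // w ≠ a ∧ w ≠ b} := fun k => ⟨(k : G) • c, ZassSharp.smul_ne Z hab k.2 hca hcb⟩
  have hinj : Function.Injective f := fun k l h => by
    have h' : (k : G) • c = (l : G) • c := congrArg Subtype.val h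
    have := ZassSharp.semi Z hab (E.mul_mem (E.inv_mem l.2) k.2) hca hcb (by rw [mul_smul, h', inv_smul_smul])
    exact Subtype.ext (inv_mul_eq_one.mp this).symm
  have hsurj : Function.Surjective f := by
    rintro ⟨w, hwa, hwb⟩
    have inj : ∀ z : Ω, z ≠ a → z ≠ b → Function.Injective ![a, b, z] := by
      intro z hza hzb i j h
      have h1 := hab.symm; have h2 := hza.symm; have h3 := hzb.symm
      fin_cases i <;> fin_cases j <;> simp_all
    obtain ⟨g, hg⟩ := h3.exists_smul_eq (⟨_, inj c hca hcb⟩ : Fin 3 ↪ Ω) ⟨_, inj w hwa hwb⟩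
    have h := fun i => DFunLike.congr_fun hg i
    exact ⟨⟨g, Subgroup.mem_inf.mpr ⟨h 0, h 1⟩⟩, Subtype.ext (h 2)⟩
  rw [Nat.card_eq_of_bijective f ⟨hinj, hsurj⟩, Nat.card_eq_fintype_card, Fintype.card_subtype,
    show Finset.univ.filter (fun c => c ≠ a ∧ c ≠ b) = ({a, b} : Finset Ω)ᶜ by ext c; simp,
    Finset.card_compl, Finset.card_pair hab]

end Cfsg.Agent.ZassSuz
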