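import Mathlib

/-!
# Arithmetic for the order of a Suzuki group
-/

set_option autoImplicit false
set_option linter.all false

namespace Cfsg.Agent.ZassSuz

theorem vieta_aux : ∀ (N : ℕ) (a b : ℕ) (k : ℤ), a + b ≤ N → a ≤ b → Odd a → Odd b →
    (a : ℤ) ^ 2 + (b : ℤ) ^ 2 + 8 = (k - 2) * a * b + 4 * a + 4 * b → k = 4 := by
  intro N
  induction N using Nat.strong_induction_on with
  | _ N IH => ?_
  intro a b k hN hab ha hb heq
  rcases Nat.lt_or_ge a 3 with ha3 | ha3
  · obtain rfl : a = 1 := by obtain ⟨m, rfl⟩ := ha; omega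
    push_cast at heq
    have h5 : (b : ℤ) * ((k + 2) - b) = 5 := by linear_combination -heq
    have hd : b ∣ 5 := Int.natCast_dvd_natCast.mp (Dvd.intro _ h5)
    rcases (Nat.dvd_prime (by norm_num : Nat.Prime 5)).mp hd with rfl | rfl <;>
      · push_cast at h5; omega
  · have hb0 : (0 : ℤ) < b := by have := hb.pos; exact_mod_cast this
    obtain ⟨c, hc⟩ : ∃ c : ℤ, c = (k - 2) * a + 4 - b := ⟨_, rfl⟩
    have hprod : c * b = (a : ℤ) ^ 2 - 4 * a + 8 := by rw [hc]; linear_combination -heq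
    have hpos : (0 : ℤ) < (a : ℤ) ^ 2 - 4 * a + 8 := by nlinarith [sq_nonneg ((a : ℤ) - 2)]
    have hc0 : 0 < c := by
      by_contra hle
      push Not at hle
      nlinarith
    have hca : c < a := by
      by_contra hle
      push Not at hle
      have hab' : (a : ℤ) ≤ b := by exact_mod_cast hab
      have ha3' : (3 : ℤ) ≤ a := by exact_mod_cast ha3
      nlinarith
    obtain ⟨c', rfl⟩ : ∃ c' : ℕ, c = c' := ⟨c.toNat, by omega⟩
    have hodd : Odd c' := by
      have h1 : Odd ((c' : ℤ) * b) := by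
        rw [hprod]
        obtain ⟨m, rfl⟩ := ha
        exact ⟨2 * (m : ℤ) ^ 2 - 2 * m + 2, by push_cast; ring⟩
      exact_mod_cast (Int.odd_mul.mp h1).1
    have hca' : c' < a := by exact_mod_cast hca
    refine IH (c' + a) (by omega) c' a k le_rfl hca'.le hodd ha ?_
    linear_combination (((c' : ℤ) - b) * hc) + heq

theorem vieta {a b q k : ℕ} (ha : Odd a) (hb : Odd b) (hsum : a + b = 2 * q + 2)
    (hk : k * (a * b) = 4 * (q ^ 2 + 1)) : a * b = q ^ 2 + 1 := by
  have heq : (a : ℤ) ^ 2 + (b : ℤ) ^ 2 + 8 = ((k : ℤ) - 2) * a * b + 4 * a + 4 * b := by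
    have h1 : (a : ℤ) + b = 2 * q + 2 := by exact_mod_cast hsum
    have h2 : (k : ℤ) * (a * b) = 4 * ((q : ℤ) ^ 2 + 1) := by exact_mod_cast hk
    linear_combination ((a : ℤ) + b + 2 * q + 2 - 4) * h1 - h2
  have h4 : (k : ℤ) = 4 := by
    rcases le_total a b with h | h
    · exact vieta_aux _ a b k le_rfl h ha hb heq
    · exact vieta_aux _ b a k le_rfl h hb ha (by linear_combination heq)
  have : k = 4 := by exact_mod_cast h4
  subst this
  omega

theorem not_three_dvd (q : ℕ) : ¬ 3 ∣ q ^ 2 + 1 := fun h => by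
  have h1 := Nat.mod_eq_zero_of_dvd h
  rw [Nat.add_mod, Nat.pow_mod] at h1
  have : q % 3 < 3 := Nat.mod_lt _ (by norm_num)
  interval_cases hq : q % 3 <;> simp at h1

/-- The family of torus parameters forces an odd exponent when the kernel has order `q²`. -/
theorem square_case {ι : Type*} (s : Finset ι) (a l : ι → ℕ) (q n : ℕ) (hq : q = 2 ^ n) (hq4 : 4 ≤ q)
    (ha : ∀ i ∈ s, 2 ≤ a i) (hdvd : ∀ i ∈ s, a i ∣ q ^ 2 + 1)
    (hcop : ∀ i ∈ s, ∀ j ∈ s, i ≠ j → Nat.Coprime (a i) (a j)) (hl : ∀ i ∈ s, l i = 2 ∨ l i = 4)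
    (hsum : ∑ i ∈ s, ((a i : ℚ) - 1) / l i = (q : ℚ) / 2)
    (hT : ∑ i ∈ s, ((a i : ℚ) - 1) / (a i * l i) < 1 / 2) : Odd n := by
  classical
  have hev : Even q := by
    rw [hq]
    refine Nat.even_pow.mpr ⟨by norm_num, ?_⟩
    rintro rfl
    simp at hq
    omega
  have hq2odd : Odd (q ^ 2 + 1) := (Nat.even_pow.mpr ⟨hev, two_ne_zero⟩).add_one
  have haodd : ∀ i ∈ s, Odd (a i) := fun i hi => Odd.of_dvd_nat hq2odd (hdvd i hi)
  have ha5 : ∀ i ∈ s, 5 ≤ a i := by
    intro i hi
    by_contra hlt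
    have h2 := ha i hi
    obtain ⟨m, hm⟩ := haodd i hi
    obtain h3 : a i = 3 := by omega
    exact not_three_dvd q (h3 ▸ hdvd i hi)
  have hterm : ∀ i ∈ s, (4 / 5 : ℚ) / l i ≤ ((a i : ℚ) - 1) / (a i * l i) := by
    intro i hi
    have h5 : (5 : ℚ) ≤ a i := by exact_mod_cast ha5 i hi
    have hl0 : (0 : ℚ) < l i := by rcases hl i hi with h | h <;> rw [h] <;> norm_num
    rw [← div_div]
    refine div_le_div_of_nonneg_right ?_ hl0.le
    rw [le_div_iff₀ (by linarith)]
    linarith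
  have hlow := lt_of_le_of_lt (Finset.sum_le_sum hterm) hT
  have hm : s.card ≤ 2 := by
    by_contra hc
    have h1 : (4 / 5 / 4 : ℚ) * s.card ≤ ∑ i ∈ s, (4 / 5 : ℚ) / l i := by
      rw [mul_comm, ← nsmul_eq_mul, ← Finset.sum_const]
      refine Finset.sum_le_sum fun i hi => ?_
      rcases hl i hi with h | h <;> rw [h] <;> norm_num
    have h2 : (3 : ℚ) ≤ s.card := by exact_mod_cast (show 3 ≤ s.card by omega)
    linarith
  have hnodvd : ∀ m : ℕ, m ∣ 5 → m ≠ 1 → m ≠ 5 → False := fun m hm h1 h5 => by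
    rcases (Nat.dvd_prime (by norm_num : Nat.Prime 5)).mp hm with h | h <;> omega
  rcases Nat.lt_or_ge s.card 2 with hlt | h2
  · exfalso
    rcases Nat.lt_or_ge s.card 1 with h0 | h1
    · rw [Finset.card_eq_zero.mp (show s.card = 0 by omega), Finset.sum_empty] at hsum
      have : (4 : ℚ) ≤ q := by exact_mod_cast hq4
      linarith
    · obtain ⟨i, rfl⟩ := Finset.card_eq_one.mp (show s.card = 1 by omega)
      have hi : i ∈ ({i} : Finset ι) := Finset.mem_singleton_self i
      rw [Finset.sum_singleton] at hsum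
      have hd := hdvd i hi
      rcases hl i hi with h | h
      · rw [h] at hsum
        push_cast at hsum
        have : a i = q + 1 := by
          have : (a i : ℚ) = q + 1 := by linarith
          exact_mod_cast this
        rw [this] at hd
        have h3 : (q + 1) ∣ (q + 1) * (q + 1) := dvd_mul_right _ _
        have h4 : (q + 1) ∣ 2 * q := by
          have := Nat.dvd_sub h3 hd
          rwa [show (q + 1) * (q + 1) - (q ^ 2 + 1) = 2 * q by
            rw [show (q + 1) * (q + 1) = q ^ 2 + 1 + 2 * q by ring]; omega] at this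
        have h5 : (q + 1) ∣ 2 := by
          have := Nat.dvd_sub (dvd_mul_left (q + 1) 2) h4
          rwa [show 2 * (q + 1) - 2 * q = 2 by omega] at this
        have := Nat.le_of_dvd (by norm_num) h5
        omega
      · rw [h] at hsum
        push_cast at hsum
        have : a i = 2 * q + 1 := by
          have : (a i : ℚ) = 2 * q + 1 := by linarith
          exact_mod_cast this
        rw [this] at hd
        have h3 : (2 * q + 1) ∣ 4 * (q ^ 2 + 1) := dvd_mul_of_dvd_right hd _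
        have h4 : (2 * q + 1) ∣ (2 * q + 1) * (2 * q - 1) := dvd_mul_right _ _
        have h5 : (2 * q + 1) ∣ 5 := by
          have := Nat.dvd_sub h3 h4
          rwa [show 4 * (q ^ 2 + 1) - (2 * q + 1) * (2 * q - 1) = 5 by
            obtain ⟨r, rfl⟩ : ∃ r, q = r + 1 := ⟨q - 1, by omega⟩
            rw [show 2 * (r + 1) - 1 = 2 * r + 1 by omega,
              show 4 * ((r + 1) ^ 2 + 1) = (2 * (r + 1) + 1) * (2 * r + 1) + 5 by ring]
            omega] at this
        exact hnodvd _ h5 (by omega) (by omega)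
  · obtain ⟨i, j, hij, rfl⟩ := Finset.card_eq_two.mp (show s.card = 2 by omega)
    have hi : i ∈ ({i, j} : Finset ι) := by simp
    have hj : j ∈ ({i, j} : Finset ι) := by simp
    rw [Finset.sum_pair hij] at hsum hlow
    have hl4 : l i = 4 ∧ l j = 4 := by
      rcases hl i hi with h | h <;> rcases hl j hj with h' | h' <;> rw [h, h'] at hlow
      · norm_num at hlow
      · norm_num at hlow
      · norm_num at hlow
      · exact ⟨h, h'⟩
    rw [hl4.1, hl4.2] at hsum
    push_cast at hsum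
    have hs2 : a i + a j = 2 * q + 2 := by
      have : (a i : ℚ) + a j = 2 * q + 2 := by linarith
      exact_mod_cast this
    obtain ⟨c, hc⟩ := (hcop i hi j hj hij).mul_dvd_of_dvd_of_dvd (hdvd i hi) (hdvd j hj)
    have hprod := vieta (haodd i hi) (haodd j hj) hs2 (k := 4 * c) (by rw [hc]; ring)
    have hsq : ((a i : ℤ) - a j).natAbs ^ 2 = 2 ^ (n + 3) := by
      zify
      rw [sq_abs]
      have h1 : (a i : ℤ) + a j = 2 * q + 2 := by exact_mod_cast hs2
      have h2 : (a i : ℤ) * a j = (q : ℤ) ^ 2 + 1 := by exact_mod_cast hprod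
      have h3 : (q : ℤ) = 2 ^ n := by exact_mod_cast hq
      rw [pow_add, ← h3]
      linear_combination ((a i : ℤ) + a j + 2 * q + 2) * h1 - 4 * h2
    obtain ⟨r, -, hr⟩ := (Nat.dvd_prime_pow Nat.prime_two).mp (hsq ▸ dvd_pow_self _ two_ne_zero)
    rw [hr, ← pow_mul] at hsq
    have := Nat.pow_right_injective (le_refl 2) hsq
    exact ⟨r - 2, by omega⟩

theorem prod_ge {ι : Type*} (s : Finset ι) (a : ι → ℕ) (ha : ∀ i ∈ s, 2 ≤ a i) :
    1 + ∑ i ∈ s, (a i - 1) ≤ ∏ i ∈ s, a i ∧ (2 ≤ s.card → 1 + ∑ i ∈ s, (a i - 1) < ∏ i ∈ s, a i) := by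
  classical
  induction s using Finset.induction_on with
  | empty => simp
  | @insert x t hx IH =>
    obtain ⟨h1, -⟩ := IH fun i hi => ha i (Finset.mem_insert_of_mem hi)
    rw [Finset.sum_insert hx, Finset.prod_insert hx]
    have h2 := ha x (Finset.mem_insert_self x t)
    obtain ⟨c, hc⟩ : ∃ c, a x = c + 1 := ⟨a x - 1, by omega⟩
    rw [hc, Nat.add_sub_cancel, add_one_mul]
    have hP : 1 ≤ ∏ i ∈ t, a i := le_trans (Nat.le_add_right 1 _) h1
    have hcP := Nat.mul_le_mul_left c hP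
    constructor
    · nlinarith
    · intro hcard
      rw [Finset.card_insert_of_notMem hx] at hcard
      obtain ⟨y, hy⟩ : t.Nonempty := Finset.card_pos.mp (by omega)
      have h3 : 2 ≤ ∏ i ∈ t, a i :=
        le_trans (ha y (Finset.mem_insert_of_mem hy)) (Nat.le_of_dvd (Finset.prod_pos fun i hi => by
          have := ha i (Finset.mem_insert_of_mem hi); omega) (Finset.dvd_prod_of_mem a hy))
      have := Nat.mul_le_mul_left c h3
      nlinarith

/-- The family of torus parameters is impossible when every order divides `q + 1` and the kernel has order `q³`. -/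
theorem cube_case {ι : Type*} (s : Finset ι) (a l : ι → ℕ) (q : ℕ) (hq4 : 4 ≤ q)
    (ha : ∀ i ∈ s, 2 ≤ a i) (hdvd : ∀ i ∈ s, a i ∣ q + 1)
    (hcop : ∀ i ∈ s, ∀ j ∈ s, i ≠ j → Nat.Coprime (a i) (a j)) (hl : ∀ i ∈ s, 2 ≤ l i)
    (hsum : ∑ i ∈ s, ((a i : ℚ) - 1) / l i = (q : ℚ) / 2)
    (hT : (∑ i ∈ s, ((a i : ℚ) - 1) / (a i * l i)) * (((q : ℚ) ^ 3 + 1) * ((q : ℚ) - 1)) ≤
      ((q : ℚ) ^ 3 + 1) * q / 2 - (q : ℚ) ^ 3) : False := by
  classical
  have hprod : ∏ i ∈ s, a i ∣ q + 1 := by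
    refine Finset.prod_dvd_of_isRelPrime (fun i hi j hj hij => ?_) hdvd
    exact Nat.coprime_iff_isRelPrime.mp (hcop i hi j hj hij)
  have hle : ((∑ i ∈ s, (a i - 1) : ℕ) : ℚ) ≥ q := by
    push_cast
    have h1 : ∀ i ∈ s, ((a i : ℚ) - 1) / l i * 2 ≤ ((a i - 1 : ℕ) : ℚ) := by
      intro i hi
      have h2 : (2 : ℚ) ≤ l i := by exact_mod_cast hl i hi
      have h3 : (2 : ℚ) ≤ a i := by exact_mod_cast ha i hi
      rw [Nat.cast_sub (by have := ha i hi; omega), Nat.cast_one, div_mul_eq_mul_div,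
        div_le_iff₀ (by linarith)]
      exact mul_le_mul_of_nonneg_left h2 (by linarith)
    have h4 := Finset.sum_le_sum h1
    rw [← Finset.sum_mul, hsum] at h4
    linarith
  have hle' : q ≤ ∑ i ∈ s, (a i - 1) := by exact_mod_cast hle
  obtain ⟨h1, h2⟩ := prod_ge s a ha
  have h3 := Nat.le_of_dvd (by omega) hprod
  have hcard : s.card = 1 := by
    rcases Nat.lt_or_ge s.card 2 with h | h
    · rcases Nat.lt_or_ge s.card 1 with h' | h'
      · rw [Finset.card_eq_zero.mp (show s.card = 0 by omega), Finset.sum_empty] at hle'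
        omega
      · omega
    · have := h2 h
      omega
  obtain ⟨i, rfl⟩ := Finset.card_eq_one.mp hcard
  have hi : i ∈ ({i} : Finset ι) := Finset.mem_singleton_self i
  rw [Finset.sum_singleton] at hsum hle' hT
  rw [Finset.prod_singleton] at h3
  have hai : a i = q + 1 := by omega
  rw [hai] at hsum hT
  push_cast at hsum hT
  have hq0 : (4 : ℚ) ≤ q := by exact_mod_cast hq4
  have hl0 : (0 : ℚ) < l i := by
    have := hl i hi
    exact_mod_cast (show 0 < l i by omega)
  rw [add_sub_cancel_right] at hsum hT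
  have hl2 : (l i : ℚ) = 2 := by
    field_simp at hsum
    nlinarith
  rw [hl2, div_mul_eq_mul_div, div_le_iff₀ (by linarith)] at hT
  have h16 : (16 : ℚ) * q ≤ (q : ℚ) ^ 3 := by nlinarith [mul_le_mul_of_nonneg_left (mul_le_mul hq0 hq0 (by norm_num) (by linarith)) (show (0 : ℚ) ≤ q by linarith)]
  ring_nf at hT
  linarith

end Cfsg.Agent.ZassSuz
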