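import Cfsg.Agent.Lib.ZassSuz.Square
import Cfsg.Agent.Lib.CT.RootSingular.Tools
import Cfsg.Agent.Lib.OddChar.Lattice

/-!
# The kernel cannot have order `q³`: the count on the tori
-/

set_option autoImplicit false
set_option linter.all false

namespace Cfsg.Agent.ZassSuz

open MulAction

universe u v

section abelian

variable {A : Type u} [Group A] [Fintype A]

/-- Distinct integer coefficients cost at least one less than their number. -/
theorem gap {ι : Type v} [Fintype ι] (m : ι → ℤ) {i₀ i₁ : ι} (h : m i₁ ≠ m i₀) :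
    (Fintype.card ι : ℤ) - 1 + (∑ i, m i) ^ 2 ≤ Fintype.card ι * ∑ i, m i ^ 2 := by
  classical
  have hid : ∑ i, ∑ j, (m i - m j) ^ 2 = 2 * ((Fintype.card ι : ℤ) * ∑ i, m i ^ 2 - (∑ i, m i) ^ 2) := by
    simp only [sub_sq, Finset.sum_add_distrib, Finset.sum_sub_distrib, Finset.sum_const, Finset.card_univ,
      nsmul_eq_mul, ← Finset.mul_sum, ← Finset.sum_mul]
    ring
  set K := Finset.univ.filter fun i => m i = m i₀ with hK
  have h0 : 1 ≤ K.card := Finset.card_pos.mpr ⟨i₀, by simp [hK]⟩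
  have h1 : 1 ≤ Kᶜ.card := Finset.card_pos.mpr ⟨i₁, by simp [hK, h]⟩
  have hne : ∀ i ∈ K, ∀ j ∈ Kᶜ, (1 : ℤ) ≤ (m i - m j) ^ 2 := by
    intro i hi j hj
    simp only [hK, Finset.mem_compl, Finset.mem_filter, Finset.mem_univ, true_and] at hi hj
    have : m i - m j ≠ 0 := fun e => hj (by linarith)
    have := sq_pos_of_ne_zero this
    omega
  have hlb : (2 : ℤ) * (K.card * Kᶜ.card) ≤ ∑ i, ∑ j, (m i - m j) ^ 2 := by
    rw [← Finset.sum_add_sum_compl K (fun i => ∑ j, (m i - m j) ^ 2), two_mul]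
    refine add_le_add ?_ ?_
    · calc ((K.card : ℤ) * Kᶜ.card) = ∑ i ∈ K, ∑ j ∈ Kᶜ, (1 : ℤ) := by simp
        _ ≤ _ := Finset.sum_le_sum fun i hi => (Finset.sum_le_sum fun j hj => hne i hi j hj).trans
            (Finset.sum_le_sum_of_subset_of_nonneg (Finset.subset_univ _) fun j _ _ => sq_nonneg _)
    · calc ((K.card : ℤ) * Kᶜ.card) = ∑ i ∈ Kᶜ, ∑ j ∈ K, (1 : ℤ) := by simp [mul_comm]
        _ ≤ _ := Finset.sum_le_sum fun i hi => (Finset.sum_le_sum fun j hj => by
            rw [← neg_sub, neg_sq]; exact hne j hj i hi).trans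
            (Finset.sum_le_sum_of_subset_of_nonneg (Finset.subset_univ _) fun j _ _ => sq_nonneg _)
  have hsum : (Fintype.card ι : ℤ) = K.card + Kᶜ.card := by
    rw [← Finset.card_add_card_compl K]; push_cast; rfl
  have h0' : (1 : ℤ) ≤ K.card := by exact_mod_cast h0
  have h1' : (1 : ℤ) ≤ Kᶜ.card := by exact_mod_cast h1
  nlinarith

/-- On an abelian group a generalized character is a multiple of the regular one or has large norm. -/
theorem norm_gap (hA : ∀ x y : A, x * y = y * x) {r : A → ℂ} (hr : IsGeneralizedCharacter A r) {D : ℤ}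
    (hD : r 1 = D) :
    (Nat.card A : ℤ) ∣ D ∨ (Nat.card A : ℝ) - 1 + (D : ℝ) ^ 2 ≤ ∑ x : A, ‖r x‖ ^ 2 := by
  classical
  obtain ⟨m, -, hexp, hnorm⟩ := OddChar.gen_exists_coeff hr
  have hone : ∀ χ : IrrCharacter A, (χ : A → ℂ) 1 = 1 := fun χ => CT.irr_degree_one_of_comm hA χ.2
  have hcard : Fintype.card (IrrCharacter A) = Nat.card A := by
    have h := CT.sum_degree_sq (G := A)
    simp only [hone, one_pow, Finset.sum_const, Finset.card_univ, nsmul_one] at h
    exact_mod_cast h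
  have hDm : D = ∑ χ, m χ := by
    have h := congrFun hexp 1
    simp only [Finset.sum_apply, Pi.smul_apply, smul_eq_mul, hone, mul_one, hD] at h
    exact_mod_cast h
  have hsum : ∑ x : A, ‖r x‖ ^ 2 = (Nat.card A : ℝ) * ((∑ χ, m χ ^ 2 : ℤ) : ℝ) := by
    obtain ⟨n, hn⟩ := Int.eq_ofNat_of_zero_le (Finset.sum_nonneg fun χ _ => sq_nonneg (m χ) : 0 ≤ ∑ χ, m χ ^ 2)
    rw [hn, RootSingular.sum_norm_sq r (n := n) (by rw [hnorm, hn]; simp)]
    simp
  by_cases h : ∀ χ χ' : IrrCharacter A, m χ = m χ'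
  · left
    rw [hDm, Finset.sum_congr rfl (g := fun _ => m (CT.trivIrr A)) fun χ _ => h _ _, Finset.sum_const,
      Finset.card_univ, hcard, nsmul_eq_mul]
    exact dvd_mul_right _ _
  · right
    push Not at h
    obtain ⟨χ, χ', hne⟩ := h
    have hg := gap m hne
    rw [hcard, ← hDm] at hg
    rw [hsum]
    exact_mod_cast hg

end abelian

variable {G : Type u} {Ω : Type v} [Group G] [MulAction G Ω]
variable [Fintype G] [Fintype Ω] {a b : Ω} {F : Subgroup G} {q : ℕ} (S : SData G Ω a b F q)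
include S

open Classical in
/-- A class function splits over the identity, the conjugates of the kernel and the rest. -/
theorem split_sum (f : G → ℝ) (hf : ∀ g x, f (g * x * g⁻¹) = f x) (hnn : ∀ x, 0 ≤ f x) :
    f 1 + (Fintype.card Ω : ℝ) * ∑ x ∈ Finset.univ.filter (fun x => x ∈ F ∧ x ≠ 1), f x +
      ∑ z ∈ Finset.univ.filter (fun z : G => ∀ c : Ω, z • c ≠ c), f z ≤ ∑ x : G, f x := by
  set P : Ω → Finset G := fun p => Finset.univ.filter fun x : G => x ≠ 1 ∧ ∀ c : Ω, x • c = c ↔ c = p with hP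
  have hp : ∀ p, ∑ x ∈ P p, f x = ∑ x ∈ Finset.univ.filter (fun x => x ∈ F ∧ x ≠ 1), f x := by
    intro p
    obtain ⟨g, hg⟩ := frame_one S p
    refine Finset.sum_bij' (fun x _ => g⁻¹ * x * g) (fun y _ => g * y * g⁻¹) (fun x hx => ?_) (fun y hy => ?_)
      (fun x _ => by group) (fun y _ => by group) (fun x _ => ?_)
    · obtain ⟨-, hx1, hxf⟩ := Finset.mem_filter.mp hx
      refine Finset.mem_filter.mpr ⟨Finset.mem_univ _, mem_F_of_only S
        (by rw [mul_smul, mul_smul, hg, (hxf p).mpr rfl, inv_smul_eq_iff, hg]) fun c hc => ?_, fun e => hx1 ?_⟩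
      · rw [mul_smul, mul_smul, inv_smul_eq_iff] at hc
        have h2 := (hxf _).mp hc
        rw [← hg] at h2
        exact MulAction.injective g h2
      · calc x = g * (g⁻¹ * x * g) * g⁻¹ := by group
          _ = 1 := by rw [e]; group
    · obtain ⟨-, hyF, hy1⟩ := Finset.mem_filter.mp hy
      refine Finset.mem_filter.mpr ⟨Finset.mem_univ _, fun e => hy1 (conj_eq_one_iff.mp e), fun c => ?_⟩
      rw [mul_smul, mul_smul, smul_eq_iff_eq_inv_smul]
      refine ⟨fun hc => ?_, fun hc => ?_⟩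
      · have := ZassOdd.Main.fix_only S.data hyF hy1 hc
        rw [inv_smul_eq_iff, hg] at this
        exact this
      · subst hc
        rw [inv_smul_eq_iff.mpr hg.symm]
        exact S.data.ker.fix _ hyF
    · have := hf g⁻¹ x
      rw [inv_inv] at this
      exact this.symm
  have hdisj : ((Finset.univ : Finset Ω) : Set Ω).PairwiseDisjoint P := by
    intro p _ p' _ hne
    refine Finset.disjoint_left.mpr fun x hx hx' => hne ?_
    exact ((Finset.mem_filter.mp hx').2.2 p).mp (((Finset.mem_filter.mp hx).2.2 p).mpr rfl)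
  set W := Finset.univ.filter fun z : G => ∀ c : Ω, z • c ≠ c with hW
  have h1B : (1 : G) ∉ Finset.univ.biUnion P := by simp [hP]
  have hBW : Disjoint (insert (1 : G) (Finset.univ.biUnion P)) W := by
    refine Finset.disjoint_left.mpr fun x hx hxW => ?_
    rcases Finset.mem_insert.mp hx with rfl | hx
    · exact (Finset.mem_filter.mp hxW).2 a (one_smul _ a)
    · obtain ⟨p, -, hxp⟩ := Finset.mem_biUnion.mp hx
      exact (Finset.mem_filter.mp hxW).2 p (((Finset.mem_filter.mp hxp).2.2 p).mpr rfl)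
  refine le_trans (le_of_eq ?_) (Finset.sum_le_sum_of_subset_of_nonneg
    (Finset.subset_univ (insert (1 : G) (Finset.univ.biUnion P) ∪ W)) fun x _ _ => hnn x)
  rw [Finset.sum_union hBW, Finset.sum_insert h1B, Finset.sum_biUnion hdisj,
    Finset.sum_congr rfl fun p _ => hp p, Finset.sum_const, Finset.card_univ, nsmul_eq_mul]

open Classical in
/-- No character restricts to the point stabiliser as two characters living on a kernel of order `q³`. -/
theorem no_char (hcard : Nat.card F = q ^ 3) {σ : G → ℂ} (hσ : IsGeneralizedCharacter G σ)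
    (hnorm : classInner σ σ = 1) (hdeg : σ 1 = ((q : ℂ) ^ 2 - 1)) (hvan : ∀ x : G, x • a = a → x ∉ F → σ x = 0)
    (hres : ∑ x ∈ Finset.univ.filter (fun x : G => x • a = a), ‖σ x‖ ^ 2 = 2 * ((q : ℝ) ^ 3 * ((q : ℝ) - 1))) :
    False := by
  have hq4 := S.four_le
  have hqR : (4 : ℝ) ≤ q := by exact_mod_cast hq4
  set f : G → ℝ := fun x => ‖σ x‖ ^ 2 with hfd
  have hf : ∀ g x, f (g * x * g⁻¹) = f x := fun g x => by simp only [hfd, CT.isClassFunction_of_isGen hσ x g]
  have hnn : ∀ x, 0 ≤ f x := fun x => by positivity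
  have hf1 : f 1 = ((q : ℝ) ^ 2 - 1) ^ 2 := by
    simp only [hfd, hdeg]
    rw [show ((q : ℂ) ^ 2 - 1) = (((q : ℝ) ^ 2 - 1 : ℝ) : ℂ) by push_cast; ring, Complex.norm_real,
      Real.norm_eq_abs, sq_abs]
  have hfG : ∑ x : G, f x = (Nat.card G : ℝ) := by
    simpa [hfd] using RootSingular.sum_norm_sq σ (n := 1) (by rw [hnorm, Nat.cast_one])
  have hP : ∑ x ∈ Finset.univ.filter (fun x => x ∈ F ∧ x ≠ 1), f x =
      2 * ((q : ℝ) ^ 3 * ((q : ℝ) - 1)) - ((q : ℝ) ^ 2 - 1) ^ 2 := by
    rw [← hres, ← hf1, eq_sub_iff_add_eq', ← Finset.sum_insert (s := Finset.univ.filter (fun x => x ∈ F ∧ x ≠ 1))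
      (a := (1 : G)) (by simp)]
    refine Finset.sum_subset (fun x hx => ?_) fun x hx hx' => ?_
    · rcases Finset.mem_insert.mp hx with rfl | hx
      · simp
      · exact Finset.mem_filter.mpr ⟨Finset.mem_univ _, S.data.ker.fix x (Finset.mem_filter.mp hx).2.1⟩
    · simp only [Finset.mem_insert, Finset.mem_filter, Finset.mem_univ, true_and, not_or, not_and] at hx hx'
      show ‖σ x‖ ^ 2 = 0
      rw [hvan x hx (fun hxF => hx'.2 hxF hx'.1), norm_zero, zero_pow two_ne_zero]
  have hsplit := split_sum S f hf hnn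
  rw [hf1, hP, hfG, card_Ω S, card_G S, hcard] at hsplit
  push_cast [Nat.cast_sub (show 1 ≤ q by omega)] at hsplit
  obtain ⟨s, htor, hcop, hsum, hT, hw⟩ := exists_family S
  choose! l hl hl2 hldiv hlF hl8 hl4 ha hdvd using fun A hA => torus_small S (htor A hA)
  have hGR : (Nat.card G : ℝ) = ((q : ℝ) ^ 3 + 1) * (q : ℝ) ^ 3 * ((q : ℝ) - 1) := by
    rw [card_G S, hcard]; push_cast [Nat.cast_sub (show 1 ≤ q by omega)]; ring
  refine cube_case s (fun A => Nat.card A) l q hq4 ha (fun A hA => ?_) hcop hl2 ?_ ?_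
  · set c : Subgroup G → ℝ := fun B =>
      ((Nat.card G : ℝ) / (Nat.card B * lidx B)) * ∑ w ∈ Finset.univ.filter (fun w => w ∈ B ∧ w ≠ 1), f w with hc
    have hc0 : ∀ B ∈ s, 0 ≤ c B := fun B _ => mul_nonneg (div_nonneg (Nat.cast_nonneg _)
      (mul_nonneg (Nat.cast_nonneg _) (Nat.cast_nonneg _))) (Finset.sum_nonneg fun w _ => hnn w)
    have hcA : c A ≤ (q : ℝ) ^ 3 * ((q : ℝ) - 1) * ((q : ℝ) + 1) * ((q : ℝ) - 2) := by
      refine ((Finset.single_le_sum hc0 hA).trans (hw f hf hnn)).trans ?_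
      linarith
    obtain ⟨z, hz, hAz⟩ := htor A hA
    have hab : ∀ x y : A, x * y = y * x := fun x y => Subtype.ext
      (cz_comm S hz x (hAz ▸ x.2) y (hAz ▸ y.2))
    have hres' := CT.isGen_restrict A hσ
    rcases norm_gap hab hres' (D := (q : ℤ) ^ 2 - 1) (by
        show σ ((1 : A) : G) = _
        rw [OneMemClass.coe_one, hdeg]; push_cast; ring) with h | h
    · have h1 : (Nat.card A : ℤ) ∣ ((q : ℤ) ^ 3 + 1) := by
        have := hdvd A hA
        rw [hcard] at this
        exact_mod_cast this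
      have h2 : (Nat.card A : ℤ) ∣ ((q : ℤ) + 1) := by
        rw [show (q : ℤ) + 1 = ((q : ℤ) ^ 3 + 1) - (q : ℤ) * ((q : ℤ) ^ 2 - 1) by ring]
        exact dvd_sub h1 (dvd_mul_of_dvd_right h _)
      exact_mod_cast h2
    exfalso
    have hSA : ∑ x : A, ‖σ x‖ ^ 2 =
        f 1 + ∑ w ∈ Finset.univ.filter (fun w => w ∈ A ∧ w ≠ 1), f w := by
      rw [← Finset.sum_insert (by simp), show insert 1 (Finset.univ.filter fun w => w ∈ A ∧ w ≠ 1) =
          Finset.univ.filter fun w => w ∈ A by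
        ext w
        simp only [Finset.mem_insert, Finset.mem_filter, Finset.mem_univ, true_and]
        exact ⟨fun h => h.elim (fun e => e ▸ one_mem A) And.left, fun h => (Classical.em (w = 1)).imp id fun e => ⟨h, e⟩⟩]
      exact (Finset.sum_subtype (Finset.univ.filter fun w => w ∈ A) (fun w => by simp) f).symm
    push_cast at h
    rw [hSA, hf1] at h
    have hlR : (l A : ℝ) + 1 ≤ Nat.card A := by
      have h1 := Nat.le_of_dvd (by have := ha A hA; omega) (hldiv A hA)
      have := ha A hA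
      exact_mod_cast (show l A + 1 ≤ Nat.card A by omega)
    have hl2R : (2 : ℝ) ≤ l A := by exact_mod_cast hl2 A hA
    set α := (Nat.card A : ℝ) with hα
    have hαpos : 0 < α := by linarith
    have h2 : (Nat.card G : ℝ) / (α * l A) * (α - 1) ≤ c A := by
      simp only [hc, hl A hA, ← hα]
      exact mul_le_mul_of_nonneg_left (by linarith) (by positivity)
    have h3 := h2.trans hcA
    rw [hGR, div_mul_eq_mul_div, div_le_iff₀ (by positivity),
      show ((q : ℝ) ^ 3 + 1) * (q : ℝ) ^ 3 * ((q : ℝ) - 1) * (α - 1) =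
        ((q : ℝ) ^ 3 * ((q : ℝ) - 1) * ((q : ℝ) + 1)) * (((q : ℝ) ^ 2 - q + 1) * (α - 1)) by ring,
      mul_assoc ((q : ℝ) ^ 3 * ((q : ℝ) - 1) * ((q : ℝ) + 1))] at h3
    have hk : (0 : ℝ) < (q : ℝ) ^ 3 * ((q : ℝ) - 1) * ((q : ℝ) + 1) :=
      mul_pos (mul_pos (by positivity) (by linarith)) (by linarith)
    have h4 := le_of_mul_le_mul_left h3 hk
    -- `((q² - q + 1)(α - 1) ≤ (q - 2) α l` with `l + 1 ≤ α`
    have h5 : α * l A ≤ (α - 1) * ((l A : ℝ) + 1) := by nlinarith
    have h6 : (q : ℝ) ^ 2 - q + 1 ≤ ((q : ℝ) - 2) * ((l A : ℝ) + 1) := by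
      have : 0 < α - 1 := by linarith
      refine le_of_mul_le_mul_right ?_ this
      nlinarith
    have h7 : q ^ 2 + 2 * (l A + 1) + 1 ≤ q * (l A + 1) + q := by
      have : ((q : ℝ) ^ 2 + 2 * ((l A : ℝ) + 1) + 1) ≤ (q : ℝ) * ((l A : ℝ) + 1) + q := by linarith
      exact_mod_cast this
    have hl8' := hl8 A hA
    obtain ⟨n, hn⟩ := S.pow_two
    have hlF' := hlF A hA
    rw [hcard, hn, ← pow_mul] at hlF'
    obtain ⟨j, -, hj⟩ := (Nat.dvd_prime_pow Nat.prime_two).mp hlF'
    have hq8 : q < 8 := by nlinarith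
    have hn' : n < 3 := by
      by_contra hlt
      have := Nat.pow_le_pow_right (show 1 ≤ 2 by norm_num) (show 3 ≤ n by omega)
      omega
    have hq : q = 4 := by interval_cases n <;> omega
    have hl8eq : l A = 8 := by
      have hj3 : j ≤ 3 := by
        by_contra hlt
        have := Nat.pow_le_pow_right (show 1 ≤ 2 by norm_num) (show 4 ≤ j by omega)
        omega
      subst hq
      interval_cases j <;> omega
    have hA65 : Nat.card A ∣ 65 := by
      have := hdvd A hA
      rwa [hcard, hq] at this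
    have hA65' : Nat.card A = 65 := by
      have h8 := hldiv A hA
      rw [hl8eq] at h8
      have hle := Nat.le_of_dvd (by norm_num) hA65
      have h2A := ha A hA
      obtain ⟨k, hk⟩ := h8
      have hk8 : k ≤ 8 := by omega
      have hA' : Nat.card A = 8 * k + 1 := by omega
      rw [hA'] at hA65 ⊢
      interval_cases k <;> first | omega | (exfalso; norm_num at hA65) | norm_num
    have hterm : ((Nat.card A : ℚ) - 1) / lidx A ≤ (q : ℚ) / 2 := by
      rw [← hsum]
      refine Finset.single_le_sum (f := fun B : Subgroup G => ((Nat.card B : ℚ) - 1) / lidx B) (fun B hB => ?_) hA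
      have : (1 : ℚ) ≤ Nat.card B := by exact_mod_cast Nat.card_pos
      exact div_nonneg (by linarith) (Nat.cast_nonneg _)
    rw [hl A hA, hl8eq, hA65', hq] at hterm
    norm_num at hterm
  · rw [← hsum]
    exact Finset.sum_congr rfl fun A hA => by rw [hl A hA]
  · rw [Finset.sum_congr rfl (g := fun A : Subgroup G => ((Nat.card A : ℚ) - 1) / (Nat.card A * lidx A))
      fun A hA => by rw [hl A hA]]
    rw [hcard] at hT
    push_cast at hT
    exact hT

end Cfsg.Agent.ZassSuz
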