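import Cfsg.Agent.Lib.ZassOddCount.Coherent
import Cfsg.Agent.Lib.CohExt.Feit

/-!
# The exceptional character for a kernel of order `q³`
-/

set_option autoImplicit false
set_option linter.all false

namespace Cfsg.Agent.ZassSuz

open scoped ComplexConjugate commutatorElement
open Cfsg.Agent.CohExt.FrobSet Cfsg.Agent.CT.FrobKernel
open Cfsg.Agent.OddChar (IsSigned)

universe u

variable {G : Type u} [Group G] [Fintype G]

open Classical in
/-- Without coherence some character restricts to the normalizer as a sum of two characters on the kernel. -/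
theorem exceptional (L : Subgroup G) [Fintype L] (N A : Subgroup L) [N.Normal] [A.Normal]
    (hC : ∀ n ∈ N, n ≠ 1 → Subgroup.centralizer ({n} : Set L) ≤ N)
    (hab : ∀ x y : L, x * y * x⁻¹ * y⁻¹ ∈ N) (hodd : Odd N.index)
    (hAN : A ≤ N) (hAc : ∀ a ∈ A, ∀ k ∈ N, a * k = k * a) (hAcomm : ⁅N, N⁆ ≤ A)
    (q n : ℕ) (hq : q = 2 ^ n) (hq4 : 4 ≤ q) (he : N.index + 1 = q) (hcard : Nat.card N = q ^ 3)
    (hA : A.relIndex N = q ^ 2)
    (hsupp : ∀ φ : L → ℂ, IsClassFunction L φ → (∀ x, x ∉ N → φ x = 0) → ∀ x : L,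
      indFun L φ x = φ x + if x = 1 then (Nat.card N : ℂ) * φ 1 else 0)
    (hlin : ∀ μ ν : L → ℂ, IsIrrCharacter L μ → μ 1 = 1 → (∀ n ∈ N, μ n = 1) →
      IsIrrCharacter L ν → ν 1 = 1 → (∀ n ∈ N, ν n = 1) →
      classInner (fun x : L => indFun L μ x) ν =
        (if μ = ν then 1 else 0) + (if (fun x => conj (μ x)) = ν then 1 else 0))
    (hiso : IsLinearIsometryOn (zspanOn (↑(ntAbove N ⊥) : Set (L → ℂ)) {1}ᶜ) (fun α : L → ℂ => indFun L α))
    (hncoh : ¬ IsCoherent (↑(ntAbove N ⊥) : Set (L → ℂ)) {1}ᶜ (fun α : L → ℂ => indFun L α)) :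
    ∃ σ : G → ℂ, IsGeneralizedCharacter G σ ∧ classInner σ σ = 1 ∧ σ 1 = (q : ℂ) ^ 2 - 1 ∧
      classInner (fun x : L => σ x) (fun x : L => σ x) = 2 ∧ ∀ x : L, x ∉ N → σ x = 0 := by
  set e := N.index with hedef
  set T := ntAbove N (⊥ : Subgroup L) with hT
  set U := ntAbove N A with hU
  have he0 : 0 < e := by omega
  have hpm : Nat.card N = 2 ^ (3 * n) := by rw [hcard, hq, ← pow_mul]; congr 1; ring
  have hτ1 : ∀ α ∈ zspanOn (↑T : Set (L → ℂ)) {1}ᶜ, indFun L α 1 = 0 := fun α hα => by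
    rw [CT.indFun_one_eval, (OddChar.zspanOn_iff.mp hα).2, mul_zero]
  have hUT : U ⊆ T := ntAbove_subset N A
  have hirr : ∀ φ ∈ T, IsIrrCharacter L φ := fun φ hφ => irr_of_mem N hC hφ
  have hvan : ∀ φ ∈ T, IsClassFunction L φ ∧ ∀ x, x ∉ N → φ x = 0 := fun φ hφ =>
    let p := CohExt.TIInd.zspan_props L N hC (OddChar.zspan_self (Finset.mem_coe.mpr hφ))
    ⟨p.1, p.2.2⟩
  have hUdeg : ∀ ψ ∈ U, CT.deg ψ = e := fun ψ hψ => deg_of_comm N hC hAcomm hψ
  have hUcard : U.card = q + 1 := by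
    have h := card_mul N hC A hAcomm
    rw [hA] at h
    refine Nat.eq_of_mul_eq_mul_right he0 ?_
    rw [← hedef, ← hU] at h
    nlinarith
  have hT2 : ∑ φ ∈ T, CT.deg φ ^ 2 + e = e * q ^ 3 := by
    have h := sum_deg N hC (⊥ : Subgroup L)
    rwa [Subgroup.relIndex_bot_left, hcard] at h
  have hU2 : ∑ φ ∈ U, CT.deg φ ^ 2 = (q + 1) * e ^ 2 := by
    rw [Finset.sum_congr rfl fun φ hφ => by rw [hUdeg φ hφ], Finset.sum_const, smul_eq_mul, hUcard]
  have hcohU := CohExt.Feit.base_coherent N hC (fun α : L → ℂ => indFun L α) hiso hτ1 A hAcomm (show 2 ≤ U.card by omega)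
  obtain ⟨φ, hφT, hφq⟩ : ∃ φ ∈ T, CT.deg φ = e * q := by
    by_contra! hnone
    refine hncoh (CohExt.irr_grow T U hirr hUT _ hiso hτ1 hcohU fun χ hχ hχU => ?_)
    obtain ⟨c, hc, hcd⟩ := pgroup_deg N hC Nat.prime_two hpm hAN hAc hχ
    rw [← hedef] at hc
    rw [hA, hq, ← pow_mul, Nat.pow_dvd_pow_iff_le_right one_lt_two] at hcd
    have hcn : c < n := by
      refine lt_of_le_of_ne (by omega) fun e1 => hnone χ hχ ?_
      rw [hc, e1, hq]
    obtain ⟨ψ, hψ⟩ : U.Nonempty := Finset.card_pos.mp (by omega)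
    refine ⟨ψ, hψ, by rw [hUdeg ψ hψ, hc]; exact dvd_mul_right _ _, ?_⟩
    rw [hUdeg ψ hψ, hc]
    have hlt : 2 * 2 ^ c < q + 1 := by
      rw [← pow_succ', hq]
      exact Nat.lt_succ_of_le (Nat.pow_le_pow_right two_pos (by omega))
    refine lt_of_lt_of_le ?_ (Finset.sum_le_sum_of_subset (s := U) fun ξ hξ =>
      Finset.mem_filter.mpr ⟨hUT hξ, Or.inl hξ⟩)
    rw [hU2]
    calc 2 * e * (e * 2 ^ c) = 2 * 2 ^ c * e ^ 2 := by ring
      _ < (q + 1) * e ^ 2 := Nat.mul_lt_mul_of_pos_right hlt (pow_pos he0 2)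
  have hφU : φ ∉ U := fun h => by
    have h1 := hUdeg φ h
    rw [hφq] at h1
    have := Nat.mul_le_mul_left e hq4
    omega
  have hTeq : ∀ ξ ∈ T, ξ = φ ∨ ξ ∈ U := by
    by_contra! h
    obtain ⟨ξ, hξ, hne, hξU⟩ := h
    have hsub : insert ξ (insert φ U) ⊆ T :=
      Finset.insert_subset hξ (Finset.insert_subset hφT hUT)
    have h1 := Finset.sum_le_sum_of_subset (f := fun φ => CT.deg φ ^ 2) hsub
    rw [Finset.sum_insert (by simp [hne, hξU]), Finset.sum_insert hφU, hU2, hφq] at h1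
    have hpos : 0 < CT.deg ξ ^ 2 := pow_pos (CT.deg_pos (hirr ξ hξ)) 2
    have hid : (e * q) ^ 2 + (q + 1) * e ^ 2 + e = e * q ^ 3 := by rw [← he]; ring
    omega
  obtain ⟨-, τ1, hiso1, hext⟩ := hcohU
  obtain ⟨ψ0, hψ0⟩ : U.Nonempty := Finset.card_pos.mp (by omega)
  have hone : ∀ ψ ∈ U, ψ 1 = (e : ℂ) := fun ψ hψ => by
    rw [CT.deg_eq (CT.isCharacter_of_isIrr (hirr ψ (hUT hψ))), hUdeg ψ hψ]
  have hφ1 : φ 1 = (e : ℂ) * q := by
    rw [CT.deg_eq (CT.isCharacter_of_isIrr (hirr φ hφT)), hφq, Nat.cast_mul]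
  have hdeg : ∀ ξ ∈ T, ∃ c : ℕ, ξ 1 = (e : ℂ) * c := fun ξ hξ =>
    (hTeq ξ hξ).elim (fun h => ⟨q, h ▸ hφ1⟩) (fun h => ⟨1, by rw [hone ξ h]; simp⟩)
  let σ : (L → ℂ) → (G → ℂ) := τ1
  have hon : ∀ ψ ∈ U, ∀ ψ' ∈ U, classInner (σ ψ) (σ ψ') = if ψ = ψ' then 1 else 0 := by
    intro ψ hψ ψ' hψ'
    rw [hiso1.2.2.1 ψ (OddChar.zspan_self hψ) ψ' (OddChar.zspan_self hψ'),
      CT.irr_inner (hirr ψ (hUT hψ)) (hirr ψ' (hUT hψ'))]
  have hσgen : ∀ ψ ∈ U, IsGeneralizedCharacter G (σ ψ) := fun ψ hψ => hiso1.2.2.2 ψ (OddChar.zspan_self hψ)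
  have hσsig : ∀ ψ ∈ U, IsSigned (σ ψ) := fun ψ hψ =>
    OddChar.isSigned_of_norm_one (hσgen ψ hψ) (by rw [hon ψ hψ ψ hψ, if_pos rfl])
  let Φ : (L → ℂ) → (G → ℂ) := fun θ => indFun L θ
  have hΦgen : ∀ ξ ∈ T, IsGeneralizedCharacter G (Φ ξ) := fun ξ hξ =>
    CT.isGen_indFun L (CT.isGen_of_isIrr (hirr ξ hξ))
  set W : G → ℂ := Φ ψ0 - σ ψ0 with hW
  have hrel : ∀ ψ ∈ U, σ ψ = Φ ψ - W := by
    intro ψ hψ
    have hz := OddChar.zspan_smul (S := (↑U : Set (L → ℂ))) (-1) (OddChar.zspan_self (Finset.mem_coe.mpr hψ0))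
    have hmem : ψ + (-1 : ℤ) • ψ0 ∈ zspanOn (↑U : Set (L → ℂ)) {1}ᶜ := by
      refine OddChar.zspanOn_iff.mpr ⟨OddChar.zspan_add (OddChar.zspan_self (Finset.mem_coe.mpr hψ)) hz, ?_⟩
      simp [hone ψ hψ, hone ψ0 hψ0]
    have h1 : τ1 (ψ + (-1 : ℤ) • ψ0) = indFun L (ψ + (-1 : ℤ) • ψ0) := hext _ hmem
    rw [hiso1.1 ψ (OddChar.zspan_self hψ) _ hz, hiso1.2.1 ψ0 (OddChar.zspan_self hψ0), CT.indFun_add,
      show indFun L ((-1 : ℤ) • ψ0) = (-1 : ℤ) • indFun L ψ0 by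
        rw [← Int.cast_smul_eq_zsmul ℂ, CT.indFun_smul, Int.cast_smul_eq_zsmul]] at h1
    simp only [← Int.cast_smul_eq_zsmul ℂ, Int.cast_neg, Int.cast_one, neg_one_smul] at h1
    funext x
    have h2 := congrFun h1 x
    simp only [Pi.add_apply, Pi.neg_apply] at h2
    simp only [hW, Pi.sub_apply, Φ, σ]
    linear_combination h2
  -- inner products with induced characters
  have heC : (e : ℂ) ≠ 0 := Nat.cast_ne_zero.mpr he0.ne'
  have hres : ∀ ξ ∈ T, ∀ θ : L → ℂ, classInner θ (fun x : L => Φ ξ x) =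
      classInner θ ξ + (e : ℂ)⁻¹ * (θ 1 * ξ 1) := by
    intro ξ hξ θ
    obtain ⟨c, hc⟩ := hdeg ξ hξ
    rw [show (fun x : L => Φ ξ x) = ξ + fun x : L => if x = 1 then (Nat.card N : ℂ) * ξ 1 else 0 from
      funext fun x => hsupp ξ (hvan ξ hξ).1 (hvan ξ hξ).2 x, CT.classInner_add_right]
    congr 1
    unfold classInner
    rw [Finset.sum_eq_single (1 : L) (fun x _ hx => by simp only [if_neg hx, map_zero, mul_zero])
      (fun hx => absurd (Finset.mem_univ _) hx)]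
    simp only [ite_true]
    rw [map_mul, Complex.conj_natCast, hc, map_mul, Complex.conj_natCast, Complex.conj_natCast,
      show Nat.card L = Nat.card N * e from N.card_mul_index.symm]
    push_cast
    have hne : (Nat.card N : ℂ) ≠ 0 := Nat.cast_ne_zero.mpr Nat.card_pos.ne'
    field_simp
  have hgram : ∀ ξ ∈ T, ∀ η ∈ T, classInner (Φ ξ) (Φ η) =
      (if ξ = η then 1 else 0) + (e : ℂ)⁻¹ * (ξ 1 * η 1) := by
    intro ξ hξ η hη
    rw [CT.frobenius_reciprocity L ξ (CT.isClassFunction_indFun L η), hres η hη ξ,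
      CT.irr_inner (hirr ξ hξ) (hirr η hη)]
  have hgramU : ∀ ψ ∈ U, ∀ ψ' ∈ U, classInner (Φ ψ) (Φ ψ') = (if ψ = ψ' then 1 else 0) + (e : ℂ) := by
    intro ψ hψ ψ' hψ'
    rw [hgram ψ (hUT hψ) ψ' (hUT hψ'), hone ψ hψ, hone ψ' hψ']
    field_simp
  obtain ⟨γ, hγ⟩ := CT.isGen_inner_int (CT.isGen_sub (hΦgen ψ0 (hUT hψ0)) (hσgen ψ0 hψ0)) (hσgen ψ0 hψ0)
  rw [← hW] at hγ
  have hσW : classInner (σ ψ0) W = γ := by rw [← CT.classInner_conj_symm, hγ, map_intCast]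
  have hPσ : classInner (Φ ψ0) (σ ψ0) = γ + 1 := by
    rw [hW, CT.classInner_sub_left, hon ψ0 hψ0 ψ0 hψ0, if_pos rfl] at hγ
    linear_combination hγ
  have hWW : classInner W W = (e : ℂ) - 2 * γ := by
    nth_rewrite 1 [hW]
    rw [CT.classInner_sub_left, hσW, hW, CT.classInner_sub_right, hgramU ψ0 hψ0 ψ0 hψ0, if_pos rfl, hPσ]
    ring
  have hWσ : ∀ ψ ∈ U, classInner W (σ ψ) = γ := by
    intro ψ hψ
    have e1 : classInner (σ ψ0) (Φ ψ) = (if ψ0 = ψ then 1 else 0) + (γ : ℂ) := by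
      rw [show Φ ψ = σ ψ + W by rw [hrel ψ hψ]; abel, CT.classInner_add_right, hon ψ0 hψ0 ψ hψ, hσW]
    have e2 : classInner W (Φ ψ) = (e : ℂ) - γ := by
      rw [hW, CT.classInner_sub_left, hgramU ψ0 hψ0 ψ hψ, e1]
      ring
    rw [hrel ψ hψ, CT.classInner_sub_right, e2, hWW]
    ring
  -- the principal character and the Steinberg constituent
  obtain ⟨ψ1, hψ1, hψ10⟩ : ∃ ψ ∈ U, ψ ≠ ψ0 := by
    by_contra! h
    have := Finset.card_le_card (show U ⊆ {ψ0} from fun ψ hψ => Finset.mem_singleton.mpr (h ψ hψ))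
    rw [Finset.card_singleton] at this
    omega
  have horth : ∀ (R : G → ℂ) (c : ℂ), IsSigned R → (∀ ψ ∈ U, classInner R (Φ ψ) = c) →
      (∀ ψ ∈ U, classInner R (σ ψ) = 0) ∧ classInner R W = c := by
    intro R c hR hRc
    have hconst : ∀ ψ ∈ U, classInner R (σ ψ) = c - classInner R W := fun ψ hψ => by
      rw [hrel ψ hψ, CT.classInner_sub_right, hRc ψ hψ]
    have hz : c - classInner R W = 0 := by
      by_contra hne
      rcases OddChar.isSigned_inner hR (hσsig ψ0 hψ0) with h' | ⟨d, -, -, rfl⟩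
      · exact hne (by rw [← hconst ψ0 hψ0, h'])
      · have h1 := hconst ψ1 hψ1
        rw [CT.classInner_smul_left, hon ψ0 hψ0 ψ1 hψ1, if_neg (Ne.symm hψ10), mul_zero] at h1
        exact hne h1.symm
    exact ⟨fun ψ hψ => by rw [hconst ψ hψ, hz], (sub_eq_zero.mp hz).symm⟩
  let one : G → ℂ := fun _ => 1
  have honeirr : IsIrrCharacter G one := CT.isIrrCharacter_one
  have hlinmem : ∀ μ : IrrCharacter L, ¬ NT N (μ : L → ℂ) → (μ : L → ℂ) 1 = 1 ∧ ∀ m ∈ N, (μ : L → ℂ) m = 1 :=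
    fun μ hμ => ZassOdd.Coh.linear_of_not_nt N hab μ.2 hμ
  let R : IrrCharacter L → (G → ℂ) := fun μ => indFun L (μ : L → ℂ)
  have hRgen : ∀ μ : IrrCharacter L, IsGeneralizedCharacter G (R μ) := fun μ =>
    CT.isGen_indFun L (CT.isGen_of_isIrr μ.2)
  have hnt1 : ¬ NT N (CT.trivIrr L : L → ℂ) := by rintro ⟨k, -, hk⟩; exact hk rfl
  have hRΦ : ∀ μ : IrrCharacter L, ¬ NT N (μ : L → ℂ) → ∀ ψ ∈ U, classInner (R μ) (Φ ψ) = 1 := by
    intro μ hμ ψ hψ
    rw [CT.frobenius_reciprocity L _ (CT.isClassFunction_indFun L ψ), hres ψ (hUT hψ), (hlinmem μ hμ).1,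
      CT.irr_inner_of_ne μ.2 (hirr ψ (hUT hψ)) (fun e1 => hμ (e1 ▸ ((mem_bot_iff N hC).mp (hUT hψ)).2)),
      hone ψ hψ]
    field_simp
    ring
  have honeΦ : ∀ ψ ∈ U, classInner one (Φ ψ) = 0 := by
    intro ψ hψ
    rw [CT.frobenius_reciprocity' L (CT.isClassFunction_of_isIrr honeirr) ψ]
    show classInner (CT.trivIrr L : L → ℂ) ψ = 0
    exact CT.irr_inner_of_ne (CT.trivIrr L).2 (hirr ψ (hUT hψ))
      (fun e1 => hnt1 (e1 ▸ ((mem_bot_iff N hC).mp (hUT hψ)).2))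
  set St : G → ℂ := R (CT.trivIrr L) - one with hSt
  have hR1 : classInner (R (CT.trivIrr L)) one = 1 := by
    rw [CT.frobenius_reciprocity L _ (CT.isClassFunction_of_isIrr honeirr)]
    exact CT.irr_inner_self (CT.trivIrr L).2
  have hRR : ∀ μ ν : IrrCharacter L, ¬ NT N (μ : L → ℂ) → ¬ NT N (ν : L → ℂ) → classInner (R μ) (R ν) =
      (if (μ : L → ℂ) = ν then 1 else 0) + (if (fun x => conj ((μ : L → ℂ) x)) = (ν : L → ℂ) then 1 else 0) := by
    intro μ ν hμ hν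
    rw [CT.frobenius_reciprocity' L (CT.isClassFunction_indFun L _) (ν : L → ℂ)]
    exact hlin μ ν μ.2 (hlinmem μ hμ).1 (hlinmem μ hμ).2 ν.2 (hlinmem ν hν).1 (hlinmem ν hν).2
  have hStsig : IsSigned St := by
    refine OddChar.isSigned_of_norm_one (CT.isGen_sub (hRgen _) (CT.isGen_of_isIrr honeirr)) ?_
    rw [hSt, CT.classInner_sub_left, CT.classInner_sub_right, CT.classInner_sub_right, hR1,
      hRR _ _ hnt1 hnt1, ← CT.classInner_conj_symm (R (CT.trivIrr L)) one, hR1, CT.irr_inner_self honeirr,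
      if_pos rfl, if_pos (funext fun x => by simp), map_one]
    norm_num
  have hStΦ : ∀ ψ ∈ U, classInner St (Φ ψ) = 1 := fun ψ hψ => by
    rw [hSt, CT.classInner_sub_left, hRΦ _ hnt1 ψ hψ, honeΦ ψ hψ, sub_zero]
  obtain ⟨hStσ, hStW⟩ := horth St 1 hStsig hStΦ
  -- `W` is orthogonal to the images
  have hγ0 : γ = 0 := by
    set Wp : G → ℂ := W - (γ : ℂ) • ∑ ψ ∈ U, σ ψ with hWp
    have hWpσ : ∀ ψ ∈ U, classInner Wp (σ ψ) = 0 := by
      intro ψ hψ
      rw [hWp, CT.classInner_sub_left, hWσ ψ hψ, CT.classInner_smul_left, CT.classInner_sum_left,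
        Finset.sum_eq_single ψ (fun η hη hne => by rw [hon η hη ψ hψ, if_neg hne]) (fun hx => absurd hψ hx),
        hon ψ hψ ψ hψ, if_pos rfl]
      ring
    have hnorm : classInner Wp Wp = (((e : ℤ) - 2 * γ - γ ^ 2 * (q + 1) : ℤ) : ℂ) := by
      nth_rewrite 2 [hWp]
      rw [CT.classInner_sub_right, CT.classInner_smul_right, CT.classInner_sum_right,
        Finset.sum_eq_zero hWpσ, mul_zero, sub_zero, hWp, CT.classInner_sub_left, CT.classInner_smul_left,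
        CT.classInner_sum_left, hWW, Finset.sum_congr rfl (g := fun _ => (γ : ℂ)) fun ψ hψ => by
          rw [← CT.classInner_conj_symm, hWσ ψ hψ, map_intCast],
        Finset.sum_const, hUcard, nsmul_eq_mul]
      push_cast; ring
    have h0 : 0 ≤ (e : ℤ) - 2 * γ - γ ^ 2 * (q + 1) := by
      have h := OddChar.classInner_self_re_nonneg Wp
      rw [hnorm, Complex.intCast_re] at h
      exact_mod_cast h
    have heq : (e : ℤ) + 1 = q := by exact_mod_cast he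
    have hqZ : (4 : ℤ) ≤ q := by exact_mod_cast hq4
    have hcases : γ = 0 ∨ γ = -1 := by
      have h1 : γ ≤ 0 := by
        by_contra h
        push Not at h
        have hg : 1 ≤ γ ^ 2 := by nlinarith
        nlinarith [mul_le_mul_of_nonneg_right hg (show (0 : ℤ) ≤ q + 1 by omega)]
      have h2 : -1 ≤ γ := by
        by_contra h
        push Not at h
        have hg : -2 * γ ≤ γ ^ 2 := by nlinarith
        nlinarith [mul_le_mul_of_nonneg_right hg (show (0 : ℤ) ≤ q + 1 by omega),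
          mul_le_mul_of_nonneg_right (show (4 : ℤ) ≤ -2 * γ by omega) (show (0 : ℤ) ≤ q by omega)]
      omega
    refine hcases.resolve_right fun hg => ?_
    have heC' : (e : ℂ) + 1 = q := by exact_mod_cast he
    have hWp0 : Wp = 0 := CT.classInner_self_eq_zero (by
      rw [hnorm, hg]
      push_cast
      linear_combination heC')
    have h := congrArg (classInner St) hWp0
    rw [hWp, CT.classInner_sub_right, hStW, CT.classInner_smul_right, CT.classInner_sum_right,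
      Finset.sum_eq_zero hStσ, CT.classInner_zero_right] at h
    simp at h
  subst hγ0
  simp only [Int.cast_zero] at hWσ hWW hPσ hσW
  have hΦσ : ∀ ψ ∈ U, ∀ ψ' ∈ U, classInner (Φ ψ) (σ ψ') = if ψ = ψ' then 1 else 0 := fun ψ hψ ψ' hψ' => by
    rw [show Φ ψ = σ ψ + W by rw [hrel ψ hψ]; abel, CT.classInner_add_left, hon ψ hψ ψ' hψ', hWσ ψ' hψ',
      add_zero]
  obtain ⟨x, hx⟩ := CT.isGen_inner_int (hΦgen φ hφT) (hσgen ψ0 hψ0)
  have hconst : ∀ ψ ∈ U, classInner (Φ φ) (σ ψ) =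
      (e : ℂ)⁻¹ * (φ 1 * (e : ℂ)) - classInner (Φ φ) W := by
    intro ψ hψ
    rw [hrel ψ hψ, CT.classInner_sub_right, hgram φ hφT ψ (hUT hψ), hone ψ hψ,
      if_neg (fun h : φ = ψ => hφU (by rw [h]; exact hψ)), zero_add]
  have hxall : ∀ ψ ∈ U, classInner (Φ φ) (σ ψ) = x := fun ψ hψ => by
    rw [hconst ψ hψ, ← hconst ψ0 hψ0, hx]
  set X : G → ℂ := Φ φ - (q : ℂ) • Φ ψ0 with hX
  have hXσ : ∀ ψ ∈ U, classInner X (σ ψ) = (x : ℂ) - if ψ0 = ψ then (q : ℂ) else 0 := by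
    intro ψ hψ
    rw [hX, CT.classInner_sub_left, hxall ψ hψ, CT.classInner_smul_left, hΦσ ψ0 hψ0 ψ hψ]
    split_ifs <;> ring
  have hXX : classInner X X = (q : ℂ) ^ 2 + 1 := by
    have hφψ : φ ≠ ψ0 := fun h => hφU (h ▸ hψ0)
    rw [hX, CT.classInner_sub_left, CT.classInner_sub_right, CT.classInner_sub_right,
      CT.classInner_smul_left, CT.classInner_smul_left, CT.classInner_smul_right, CT.classInner_smul_right,
      Complex.conj_natCast, hgram φ hφT φ hφT, hgram φ hφT ψ0 (hUT hψ0), hgram ψ0 (hUT hψ0) φ hφT,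
      hgram ψ0 (hUT hψ0) ψ0 (hUT hψ0), if_pos rfl, if_pos rfl, if_neg hφψ, if_neg hφψ.symm, hφ1, hone ψ0 hψ0]
    field_simp
    ring
  have hXgen : IsGeneralizedCharacter G X := by
    refine CT.isGen_sub (hΦgen φ hφT) ?_
    rw [show ((q : ℂ) • Φ ψ0) = ((q : ℤ) • Φ ψ0) by rw [← Int.cast_smul_eq_zsmul ℂ, Int.cast_natCast]]
    exact OddChar.isGen_int_smul _ (hΦgen ψ0 (hUT hψ0))
  have hx01 : x = 0 ∨ x = 1 := by
    set c : (L → ℂ) → ℤ := fun ψ => x - if ψ0 = ψ then (q : ℤ) else 0 with hc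
    have hXσ' : ∀ ψ ∈ U, classInner X (σ ψ) = (c ψ : ℂ) := fun ψ hψ => by
      rw [hXσ ψ hψ, hc]; push_cast; rfl
    set Xp : G → ℂ := X - ∑ ψ ∈ U, (c ψ : ℂ) • σ ψ with hXp
    have hXpσ : ∀ ψ ∈ U, classInner Xp ((c ψ : ℂ) • σ ψ) = 0 := by
      intro ψ hψ
      rw [CT.classInner_smul_right, hXp, CT.classInner_sub_left, hXσ' ψ hψ, CT.classInner_sum_left,
        Finset.sum_eq_single ψ (fun η hη hne => by rw [CT.classInner_smul_left, hon η hη ψ hψ, if_neg hne, mul_zero])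
          (fun h => absurd hψ h), CT.classInner_smul_left, hon ψ hψ ψ hψ, if_pos rfl]
      ring
    have hnorm : classInner Xp Xp = (((q : ℤ) ^ 2 + 1 - ∑ ψ ∈ U, c ψ ^ 2 : ℤ) : ℂ) := by
      nth_rewrite 2 [hXp]
      rw [CT.classInner_sub_right, CT.classInner_sum_right, Finset.sum_eq_zero hXpσ, sub_zero, hXp,
        CT.classInner_sub_left, CT.classInner_sum_left, hXX]
      push_cast
      congr 1
      refine Finset.sum_congr rfl fun ψ hψ => ?_
      rw [CT.classInner_smul_left, ← CT.classInner_conj_symm, hXσ' ψ hψ, map_intCast]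
      ring
    have h0 : 0 ≤ (q : ℤ) ^ 2 + 1 - ∑ ψ ∈ U, c ψ ^ 2 := by
      have h := OddChar.classInner_self_re_nonneg Xp
      rw [hnorm, Complex.intCast_re] at h
      exact_mod_cast h
    have hsum : ∑ ψ ∈ U, c ψ ^ 2 = (q : ℤ) * x ^ 2 + (x - q) ^ 2 := by
      rw [← Finset.add_sum_erase U _ hψ0, Finset.sum_congr rfl (g := fun _ => x ^ 2) fun ψ hψ => by
        rw [hc]; simp only [if_neg (Ne.symm (Finset.ne_of_mem_erase hψ)), sub_zero]]
      simp [hc, Finset.card_erase_of_mem hψ0, hUcard]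
      ring
    rw [hsum] at h0
    have hqZ : (4 : ℤ) ≤ q := by exact_mod_cast hq4
    have h1 : 0 ≤ x := by
      by_contra h
      push Not at h
      nlinarith [mul_le_mul_of_nonneg_left (show (x : ℤ) ≤ -1 by omega) (show (0 : ℤ) ≤ q by omega),
        mul_nonneg (show (0 : ℤ) ≤ q + 1 by omega) (sq_nonneg x)]
    have h2 : x ≤ 1 := by
      by_contra h
      push Not at h
      have h3 : (2 : ℤ) ≤ ((q : ℤ) + 1) * x - 2 * q := by
        nlinarith [mul_le_mul_of_nonneg_left (show (2 : ℤ) ≤ x by omega) (show (0 : ℤ) ≤ q + 1 by omega)]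
      nlinarith [mul_le_mul (show (2 : ℤ) ≤ x by omega) h3 (by norm_num) (show (0 : ℤ) ≤ x by omega)]
    omega
  rcases hx01 with rfl | rfl
  · -- coherence would follow
    exfalso
    simp only [Int.cast_zero] at hXσ
    set Z : G → ℂ := X + (q : ℂ) • σ ψ0 with hZ
    have hZσ : ∀ ψ ∈ U, classInner Z (σ ψ) = 0 := fun ψ hψ => by
      rw [hZ, CT.classInner_add_left, hXσ ψ hψ, CT.classInner_smul_left, hon ψ0 hψ0 ψ hψ]
      split_ifs <;> ring
    have hσZ : ∀ ψ ∈ U, classInner (σ ψ) Z = 0 := fun ψ hψ => by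
      rw [← CT.classInner_conj_symm, hZσ ψ hψ, map_zero]
    have hZZ : classInner Z Z = 1 := by
      nth_rewrite 2 [hZ]
      rw [CT.classInner_add_right, CT.classInner_smul_right, hZσ ψ0 hψ0, mul_zero, add_zero, hZ,
        CT.classInner_add_left, CT.classInner_smul_left, hXX, ← CT.classInner_conj_symm X (σ ψ0),
        hXσ ψ0 hψ0, if_pos rfl, map_sub, map_zero, Complex.conj_natCast]
      ring
    have hZgen : IsGeneralizedCharacter G Z := by
      refine CT.isGen_add hXgen ?_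
      rw [show ((q : ℂ) • σ ψ0) = ((q : ℤ) • σ ψ0) by rw [← Int.cast_smul_eq_zsmul ℂ, Int.cast_natCast]]
      exact OddChar.isGen_int_smul _ (hσgen ψ0 hψ0)
    let Y : (L → ℂ) → (G → ℂ) := fun ξ => if ξ = φ then Z else σ ξ
    have hYφ : Y φ = Z := if_pos rfl
    have hYU : ∀ ψ ∈ U, Y ψ = σ ψ := fun ψ hψ => if_neg fun h => hφU (by rw [← h]; exact hψ)
    have ho : ∀ ξ ∈ T, ∀ η ∈ T, ξ ≠ η → classInner ξ η = 0 := fun ξ hξ η hη h =>
      CT.irr_inner_of_ne (hirr ξ hξ) (hirr η hη) h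
    have h0 : ∀ ξ ∈ T, ξ ≠ 0 := fun ξ hξ h => CT.irr_one_ne_zero (hirr ξ hξ) (by rw [h]; rfl)
    refine hncoh (OddChar.isCoherent_of_images (T := T) Y rfl ho h0 (fun ξ hξ => ?_) (fun ξ hξ η hη => ?_) ?_ ?_)
    · rcases hTeq ξ hξ with rfl | h
      · rw [hYφ]; exact hZgen
      · rw [hYU ξ h]; exact hσgen ξ h
    · rw [CT.irr_inner (hirr ξ hξ) (hirr η hη)]
      rcases hTeq ξ hξ with rfl | h <;> rcases hTeq η hη with rfl | h'
      · rw [hYφ, hZZ, if_pos rfl]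
      · rw [hYφ, hYU η h', hZσ η h', if_neg (fun e1 : ξ = η => hφU (by rw [e1]; exact h'))]
      · rw [hYφ, hYU ξ h, hσZ ξ h, if_neg (fun e1 : ξ = η => hφU (by rw [← e1]; exact h))]
      · rw [hYU ξ h, hYU η h', hon ξ h η h']
    · obtain ⟨α, hα, hα0⟩ := (CohExt.Feit.base_coherent N hC (fun α : L → ℂ => indFun L α) hiso hτ1 A hAcomm
        (by rw [← hU]; omega)).1
      exact ⟨α, OddChar.zspanOn_mono (Finset.coe_subset.mpr hUT) hα, hα0⟩
    · intro α hα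
      obtain ⟨hαz, hα1⟩ := OddChar.zspanOn_iff.mp hα
      suffices key : ∀ β ∈ zspan (↑T : Set (L → ℂ)),
          OddChar.extendMap T Y β = indFun L β - (β 1 / (e : ℂ)) • W by
        rw [key α hαz, hα1]; simp
      refine OddChar.zspan_induction (fun ξ hξ => ?_) ?_ (fun c _ d _ hc hd => ?_) (fun m c _ hc => ?_)
      · rw [OddChar.extendMap_self Y ho (Finset.mem_coe.mp hξ) (h0 ξ hξ)]
        rcases hTeq ξ (Finset.mem_coe.mp hξ) with rfl | h
        · rw [hYφ, hZ, hX, hφ1, mul_div_cancel_left₀ _ heC, hW, smul_sub]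
          show Φ ξ - _ + _ = Φ ξ - _
          abel
        · rw [hYU ξ h, hone ξ h, div_self heC, one_smul, hrel ξ h]
      · rw [OddChar.extendMap_zero]
        funext g
        simp [indFun, extendByZero]
      · rw [OddChar.extendMap_add, hc, hd, CT.indFun_add, Pi.add_apply, add_div, add_smul]
        abel
      · rw [OddChar.extendMap_zsmul, hc, ← Int.cast_smul_eq_zsmul ℂ m c, CT.indFun_smul,
          ← Int.cast_smul_eq_zsmul ℂ m, smul_sub, Pi.smul_apply, smul_eq_mul, smul_smul, mul_div_assoc]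
  -- the exceptional character
  simp only [Int.cast_one] at hxall
  have hcf := CT.isClassFunction_of_isGen (hσgen ψ0 hψ0)
  have hexp : (fun y : L => σ ψ0 y) = ψ0 + φ := by
    refine sub_eq_zero.mp (CT.classFunction_eq_zero ?_ fun μ hμ => ?_)
    · intro g y
      simp only [Pi.sub_apply, Pi.add_apply, (hvan ψ0 (hUT hψ0)).1 g y, (hvan φ hφT).1 g y]
      congr 1
      show σ ψ0 _ = σ ψ0 _
      push_cast
      exact hcf _ _
    rw [CT.classInner_sub_left, CT.classInner_add_left, ← CT.frobenius_reciprocity' L hcf μ,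
      CT.irr_inner (hirr ψ0 (hUT hψ0)) hμ, CT.irr_inner (hirr φ hφT) hμ]
    have hφψ : φ ≠ ψ0 := fun h => hφU (h ▸ hψ0)
    by_cases hnt : NT N μ
    · rcases hTeq μ ((mem_bot_iff N hC).mpr ⟨hμ, hnt⟩) with rfl | h
      · rw [← CT.classInner_conj_symm, hxall ψ0 hψ0, map_one, if_neg hφψ.symm, if_pos rfl]
        ring
      · rw [if_neg (show φ ≠ μ from fun e1 => hφU (by rw [e1]; exact h)), ← CT.classInner_conj_symm,
          hΦσ μ h ψ0 hψ0, add_zero]
        by_cases hμψ : μ = ψ0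
        · rw [if_pos hμψ, if_pos hμψ.symm, map_one, sub_self]
        · rw [if_neg hμψ, if_neg (Ne.symm hμψ), map_zero, sub_self]
    · rw [if_neg (show ψ0 ≠ μ from fun e1 => hnt (e1 ▸ ((mem_bot_iff N hC).mp (hUT hψ0)).2)),
        if_neg (show φ ≠ μ from fun e1 => hnt (e1 ▸ ((mem_bot_iff N hC).mp hφT).2)), add_zero, sub_zero,
        ← CT.classInner_conj_symm]
      suffices hz : classInner (R ⟨μ, hμ⟩) (σ ψ0) = 0 by rw [show indFun L μ = R ⟨μ, hμ⟩ from rfl, hz, map_zero]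
      by_cases h1 : (⟨μ, hμ⟩ : IrrCharacter L) = CT.trivIrr L
      · rw [h1, show R (CT.trivIrr L) = St + one by rw [hSt]; abel, CT.classInner_add_left, hStσ ψ0 hψ0,
          (horth one 0 (Or.inl honeirr) honeΦ).1 ψ0 hψ0, add_zero]
      · refine (horth _ 1 (OddChar.isSigned_of_norm_one (hRgen ⟨μ, hμ⟩) ?_) (hRΦ ⟨μ, hμ⟩ hnt)).1 ψ0 hψ0
        rw [hRR _ _ hnt hnt, if_pos rfl, if_neg, add_zero]
        intro hr
        exact h1 (Subtype.ext (ZassOdd.Coh.eq_one_of_real N hodd hμ (hlinmem ⟨μ, hμ⟩ hnt).1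
          (hlinmem ⟨μ, hμ⟩ hnt).2 hr))
  refine ⟨σ ψ0, hσgen ψ0 hψ0, by rw [hon ψ0 hψ0 ψ0 hψ0, if_pos rfl], ?_, ?_, fun y hy => ?_⟩
  · have h1 : σ ψ0 ((1 : L) : G) = ψ0 1 + φ 1 := congrFun hexp 1
    rw [OneMemClass.coe_one] at h1
    rw [h1, hone ψ0 hψ0, hφ1, ← he]
    push_cast; ring
  · rw [hexp, CT.classInner_add_left, CT.classInner_add_right, CT.classInner_add_right,
      CT.irr_inner_self (hirr ψ0 (hUT hψ0)), CT.irr_inner_self (hirr φ hφT),
      CT.irr_inner_of_ne (hirr ψ0 (hUT hψ0)) (hirr φ hφT) (fun h => hφU (h ▸ hψ0)),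
      CT.irr_inner_of_ne (hirr φ hφT) (hirr ψ0 (hUT hψ0)) (fun h => hφU (h ▸ hψ0))]
    norm_num
  · rw [show σ ψ0 y = ψ0 y + φ y from congrFun hexp y, (hvan ψ0 (hUT hψ0)).2 y hy, (hvan φ hφT).2 y hy, add_zero]

end Cfsg.Agent.ZassSuz
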