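import Cfsg.Agent.Lib.ZassSuz.Count
import Cfsg.Agent.Lib.ZassSuz.Exceptional
import Cfsg.Agent.Lib.ZassOddCount.Feit

/-!
# The kernel cannot have order `q³`
-/

set_option autoImplicit false
set_option linter.all false

namespace Cfsg.Agent.ZassSuz

open MulAction
open scoped commutatorElement
open Cfsg.Agent.PermGp.ZEven Cfsg.Agent.CohExt Cfsg.Agent.ZassOdd.Main

universe u v

variable {G : Type u} {Ω : Type v} [Group G] [MulAction G Ω]
variable [Fintype G] [Fintype Ω] {a b : Ω} {F : Subgroup G} {q : ℕ} (S : SData G Ω a b F q)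
include S

theorem not_cube (hcard : Nat.card F = q ^ 3) : False := by
  classical
  have D := S.data
  have hq4 := S.four_le
  obtain ⟨n, hn⟩ := S.pow_two
  set L := Subgroup.normalizer (F : Set G) with hLdef
  haveI : Fintype L := Fintype.ofFinite L
  have hL : ∀ g : G, g ∈ L ↔ g • a = a := normalizer_mem D
  haveI := normal_sub D L hL
  have hstab := S.stab
  have hidx := index_eq D L hL
  have hcardN : Nat.card (F.subgroupOf L) = Nat.card F := SibleyMain.card_eq F
  have hFL : F ≤ L := le_L D L hL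
  set Zc : Subgroup G := (Subgroup.center F).map F.subtype with hZc
  have hZF : Zc ≤ F := fun y hy => by obtain ⟨w, -, rfl⟩ := hy; exact w.2
  have hZcomm : ∀ y ∈ Zc, ∀ k ∈ F, y * k = k * y := by
    rintro _ ⟨w, hw, rfl⟩ k hk
    exact (congrArg Subtype.val (Subgroup.mem_center_iff.mp hw ⟨k, hk⟩)).symm
  have hZmem : ∀ y ∈ F, (∀ k ∈ F, y * k = k * y) → y ∈ Zc := fun y hy h =>
    ⟨⟨y, hy⟩, Subgroup.mem_center_iff.mpr fun k => Subtype.ext (h k k.2).symm, rfl⟩
  haveI : (Zc.subgroupOf L).Normal := by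
    refine ⟨fun y hy g => hZmem _ (D.ker.conj g ((hL g).mp g.2) _ (hZF hy)) fun k hk => ?_⟩
    have hk' := D.ker.conj (g : G)⁻¹ (inv_smul_eq_iff.mpr ((hL g).mp g.2).symm) k hk
    have h1 : (y : G) * ((g : G)⁻¹ * k * (g : G)⁻¹⁻¹) = (g : G)⁻¹ * k * (g : G)⁻¹⁻¹ * y := hZcomm _ hy _ hk'
    rw [inv_inv] at h1
    show (g : G) * (y : G) * (g : G)⁻¹ * k = k * ((g : G) * y * (g : G)⁻¹)
    calc (g : G) * (y : G) * (g : G)⁻¹ * k = g * ((y : G) * ((g : G)⁻¹ * k * g)) * (g : G)⁻¹ := by group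
      _ = k * ((g : G) * y * (g : G)⁻¹) := by rw [h1]; group
  have hcomm : ⁅F.subgroupOf L, F.subgroupOf L⁆ ≤ Zc.subgroupOf L := by
    rw [Subgroup.commutator_le]
    intro x hx y hy
    obtain ⟨-, hcom, -, -⟩ := S1138.result S.suz
    have := hcom (⟨x, hx⟩ : F)⁻¹ (⟨y, hy⟩ : F)⁻¹
    rw [inv_inv, inv_inv] at this
    refine hZmem _ (mul_mem (mul_mem (mul_mem hx hy) (inv_mem hx)) (inv_mem hy)) fun k hk => ?_
    exact (congrArg Subtype.val (Subgroup.mem_center_iff.mp this ⟨k, hk⟩)).symm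
  have hA : (Zc.subgroupOf L).relIndex (F.subgroupOf L) = q ^ 2 := by
    rw [Subgroup.relIndex_subgroupOf hFL]
    refine Nat.eq_of_mul_eq_mul_left (show 0 < q by omega) ?_
    have h := Subgroup.relIndex_mul_relIndex ⊥ Zc F bot_le hZF
    rw [Subgroup.relIndex_bot_left, Subgroup.relIndex_bot_left, hcard, hZc,
      Subgroup.card_map_of_injective F.subtype_injective, S.center, ← hZc] at h
    rw [h]; ring
  have hbig : 2 * Nat.card ↥(stabilizer G a ⊓ stabilizer G b) + 1 < Nat.card F := by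
    have h1 : q * (q * q) ≥ q * 4 := Nat.mul_le_mul_left q (by nlinarith)
    rw [hcard]
    have : q ^ 3 = q * (q * q) := by ring
    omega
  obtain ⟨σ, hσ, hnorm, hdeg, hres, hvan⟩ := exceptional L (F.subgroupOf L) (Zc.subgroupOf L) (hC_L D L hL)
    (comm_mem D L hL) (by rw [hidx]; exact D.odd) (fun y hy => hZF hy)
    (fun y hy k hk => Subtype.ext (hZcomm _ hy _ hk)) hcomm q n hn hq4 (by rw [hidx]; exact hstab)
    (by rw [hcardN, hcard]) hA (fun φ h1 h2 x => supp D L hL φ h1 h2 x)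
    (fun μ ν h1 h2 h3 h4 _ h6 => lin D L hL μ ν h1 h2 h3 h4 h6)
    (SibleyMain.tau_iso F (hC_L D L hL) (ti D)) (not_coherent D L hL hbig)
  refine no_char S hcard hσ hnorm hdeg (fun x hxa hxF => hvan ⟨x, (hL x).mpr hxa⟩ hxF) ?_
  rw [← Finset.sum_subtype (p := fun x : G => x ∈ L) (F := ‹Fintype L›)
    (Finset.univ.filter fun x : G => x • a = a) (fun x => by simp [hL]) (fun x => ‖σ x‖ ^ 2) |>.symm]
  rw [RootSingular.sum_norm_sq (fun x : L => σ x) (n := 2) (by rw [hres]; norm_num), card_L D L hL, hcard,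
    show Nat.card ↥(stabilizer G a ⊓ stabilizer G b) = q - 1 by omega]
  push_cast [Nat.cast_sub (show 1 ≤ q by omega)]
  ring

end Cfsg.Agent.ZassSuz
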