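import Cfsg.Agent.Lib.ZassSuz.Torus

/-!
# The family of tori
-/

set_option autoImplicit false
set_option linter.all false

namespace Cfsg.Agent.ZassSuz

open MulAction

universe u v w

variable {G : Type u} {Ω : Type v} [Group G] [MulAction G Ω]

/-- Conjugacy of subgroups. -/
def cjSetoid (G : Type u) [Group G] : Setoid (Subgroup G) where
  r A B := ∃ g : G, A.map (MulAut.conj g).toMonoidHom = B
  iseqv :=
    { refl := fun A => ⟨1, by ext; simp⟩
      symm := by
        rintro A _ ⟨g, rfl⟩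
        refine ⟨g⁻¹, ?_⟩
        rw [Subgroup.map_map]
        ext y
        simp [mul_assoc]
      trans := by
        rintro A _ _ ⟨g, rfl⟩ ⟨g', rfl⟩
        refine ⟨g' * g, ?_⟩
        rw [Subgroup.map_map]
        congr 1
        ext y
        simp [mul_assoc] }

/-- A chosen conjugate. -/
noncomputable def crep (A : Subgroup G) : Subgroup G := (Quotient.mk (cjSetoid G) A).out

theorem crep_spec (A : Subgroup G) : ∃ g : G, (crep A).map (MulAut.conj g).toMonoidHom = A :=
  Quotient.exact (s := cjSetoid G) (Quotient.out_eq (Quotient.mk (cjSetoid G) A))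

theorem crep_congr {A B : Subgroup G} (g : G) (h : A.map (MulAut.conj g).toMonoidHom = B) : crep A = crep B :=
  congrArg Quotient.out (Quotient.sound (s := cjSetoid G) ⟨g, h⟩)

theorem crep_idem (A : Subgroup G) : crep (crep A) = crep A := by
  obtain ⟨g, hg⟩ := crep_spec A
  exact crep_congr g hg

theorem cz_map (z g : G) : (cz z).map (MulAut.conj g).toMonoidHom = cz (g * z * g⁻¹) := by
  ext y
  rw [Subgroup.mem_map, mem_cz]
  constructor
  · rintro ⟨w, hw, rfl⟩
    rw [mem_cz] at hw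
    show g * w * g⁻¹ * (g * z * g⁻¹) = g * z * g⁻¹ * (g * w * g⁻¹)
    calc g * w * g⁻¹ * (g * z * g⁻¹) = g * (w * z) * g⁻¹ := by group
      _ = _ := by rw [hw]; group
  · intro h
    refine ⟨g⁻¹ * y * g, mem_cz.mpr ?_, show g * (g⁻¹ * y * g) * g⁻¹ = y by group⟩
    calc g⁻¹ * y * g * z = g⁻¹ * (y * (g * z * g⁻¹)) * g := by group
      _ = _ := by rw [h]; group

/-- The index of a subgroup in its normalizer. -/
noncomputable def lidx (A : Subgroup G) : ℕ := (A.subgroupOf (Subgroup.normalizer (A : Set G))).index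

variable [Fintype G] [Fintype Ω] {a b : Ω} {F : Subgroup G} {q : ℕ} (S : SData G Ω a b F q)
include S

theorem lidx_pos (A : Subgroup G) : 0 < lidx A := Nat.pos_of_ne_zero Subgroup.index_ne_zero_of_finite

theorem coprime_tori {z z' : G} (hz : RealF Ω z) (hz' : RealF Ω z') (hne : crep (cz z) ≠ crep (cz z')) :
    Nat.Coprime (Nat.card (cz z)) (Nat.card (cz z')) := by
  classical
  by_contra hcop
  obtain ⟨p, hp, hd, hd'⟩ := Nat.Prime.not_coprime_iff_dvd.mp hcop
  haveI := Fact.mk hp
  have key : ∀ {z : G}, RealF Ω z → p ∣ Nat.card (cz z) → ∃ P : Sylow p G, (P : Subgroup G) ≤ cz z ∧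
      (P : Subgroup G) ≠ ⊥ := by
    intro z hz hd
    obtain ⟨u, hu⟩ := exists_prime_orderOf_dvd_card' (G := cz z) p hd
    have hu1 : (u : G) ≠ 1 := fun e => hp.one_lt.ne' (by rw [← hu, ← Subgroup.orderOf_coe, e, orderOf_one])
    obtain ⟨P, hP⟩ := (IsPGroup.of_card (p := p) (n := 1) (G := Subgroup.zpowers (u : G))
      (by rw [Nat.card_zpowers, Subgroup.orderOf_coe, hu, pow_one])).exists_le_sylow
    have huP := hP (Subgroup.mem_zpowers _)
    haveI : Nontrivial (P : Subgroup G) :=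
      ⟨⟨⟨u, huP⟩, 1, fun e => hu1 (congrArg Subtype.val e)⟩⟩
    haveI := P.isPGroup'.center_nontrivial
    obtain ⟨w, hw⟩ := exists_ne (1 : Subgroup.center (P : Subgroup G))
    have hw1 : ((w : (P : Subgroup G)) : G) ≠ 1 := fun e => hw (Subtype.ext (Subtype.ext e))
    have hwc : ∀ y ∈ (P : Subgroup G), ((w : (P : Subgroup G)) : G) * y = y * (w : (P : Subgroup G)) := fun y hy =>
      (congrArg Subtype.val (Subgroup.mem_center_iff.mp w.2 ⟨y, hy⟩)).symm
    have hwA : ((w : (P : Subgroup G)) : G) ∈ cz z := by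
      have h1 : cz (u : G) = cz z := cz_eq S hz u.2 hu1
      rw [← h1]
      exact mem_cz.mpr (hwc u huP)
    refine ⟨P, fun y hy => ?_, (Subgroup.nontrivial_iff_ne_bot _).mp inferInstance⟩
    rw [← cz_eq S hz hwA hw1]
    exact mem_cz.mpr (hwc y hy).symm
  obtain ⟨P, hP, hP1⟩ := key hz hd
  obtain ⟨Q, hQ, -⟩ := key hz' hd'
  obtain ⟨g, hg⟩ := MulAction.exists_smul_eq G P Q
  obtain ⟨w, hw, hw1⟩ := (Subgroup.ne_bot_iff_exists_ne_one.mp hP1 |> fun ⟨w, hw⟩ =>
    (⟨(w : G), w.2, fun e => hw (Subtype.ext e)⟩ : ∃ w : G, w ∈ (P : Subgroup G) ∧ w ≠ 1))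
  have hgw : g * w * g⁻¹ ∈ cz z' := hQ (by
    rw [← hg, Sylow.coe_subgroup_smul]
    exact ⟨w, hw, by simp⟩)
  refine hne (crep_congr g ?_)
  rw [← cz_eq S hz' hgw (fun e => hw1 (conj_eq_one_iff.mp e)), ← cz_eq S hz (hP hw) hw1, cz_map]

open Classical in
/-- The tori, with the counting identities. -/
theorem exists_family :
    ∃ s : Finset (Subgroup G), (∀ A ∈ s, ∃ z, RealF Ω z ∧ A = cz z) ∧
      (∀ A ∈ s, ∀ B ∈ s, A ≠ B → Nat.Coprime (Nat.card A) (Nat.card B)) ∧
      ∑ A ∈ s, ((Nat.card A : ℚ) - 1) / lidx A = (q : ℚ) / 2 ∧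
      (∑ A ∈ s, ((Nat.card A : ℚ) - 1) / (Nat.card A * lidx A)) * (((Nat.card F : ℚ) + 1) * ((q : ℚ) - 1)) ≤
        ((Nat.card F : ℚ) + 1) * q / 2 - Nat.card F ∧
      ∀ f : G → ℝ, (∀ g x, f (g * x * g⁻¹) = f x) → (∀ x, 0 ≤ f x) →
        ∑ A ∈ s, ((Nat.card G : ℝ) / (Nat.card A * lidx A)) *
            ∑ w ∈ Finset.univ.filter (fun w => w ∈ A ∧ w ≠ 1), f w ≤
          ∑ z ∈ Finset.univ.filter (fun z : G => ∀ c : Ω, z • c ≠ c), f z := by
  set R := Finset.univ.filter fun z : G => RealF Ω z with hR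
  have hRm : ∀ {z}, z ∈ R ↔ RealF Ω z := fun {z} => by simp [hR]
  set s := R.image fun z => crep (cz z) with hs
  have htor : ∀ A ∈ s, ∃ z, RealF Ω z ∧ A = cz z := by
    intro A hA
    obtain ⟨z, hz, rfl⟩ := Finset.mem_image.mp hA
    obtain ⟨g, hg⟩ := crep_spec (cz z)
    refine ⟨g⁻¹ * z * g, by simpa using conj_real S (hRm.mp hz) g⁻¹, ?_⟩
    have h1 := cz_map (g⁻¹ * z * g) g
    rw [show g * (g⁻¹ * z * g) * g⁻¹ = z by group, ← hg] at h1
    exact (Subgroup.map_injective (MulAut.conj g).injective h1).symm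
  have hidem : ∀ A ∈ s, crep A = A := by
    intro A hA
    obtain ⟨z, -, rfl⟩ := Finset.mem_image.mp hA
    exact crep_idem _
  have hfib : ∀ (f : G → ℝ), (∀ g x, f (g * x * g⁻¹) = f x) → ∀ A ∈ s,
      ∑ z ∈ R.filter (fun z => crep (cz z) = A), f z =
        ((Nat.card G : ℝ) / (Nat.card A * lidx A)) * ∑ w ∈ Finset.univ.filter (fun w => w ∈ A ∧ w ≠ 1), f w := by
    intro f hf A hA
    obtain ⟨z₀, hz₀, hA₀⟩ := htor A hA
    set N := Subgroup.normalizer (A : Set G) with hN
    set fib := R.filter (fun z => crep (cz z) = A) with hfibd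
    have hNcard : (Nat.card N : ℝ) = Nat.card A * lidx A := by
      rw [← (A.subgroupOf N).card_mul_index, Nat.card_congr (Subgroup.subgroupOfEquivOfLe Subgroup.le_normalizer).toEquiv]
      push_cast; rfl
    have hcount : ∀ z ∈ fib, (Finset.univ.filter fun g : G => g⁻¹ * z * g ∈ A).card = Nat.card N := by
      intro z hz
      obtain ⟨hzR, hzc⟩ := Finset.mem_filter.mp hz
      obtain ⟨g₀, hg₀⟩ := crep_spec (cz z)
      rw [hzc] at hg₀
      rw [← Fintype.card_subtype, ← Nat.card_eq_fintype_card]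
      have hiff : ∀ g : G, g⁻¹ * z * g ∈ A ↔ g₀⁻¹ * g ∈ N := by
        intro g
        have hzA : g₀⁻¹ * z * g₀ ∈ A := by
          have := self_mem_cz z
          rw [← hg₀] at this
          obtain ⟨y, hy, e⟩ := this
          rw [← e]
          show g₀⁻¹ * (g₀ * y * g₀⁻¹) * g₀ ∈ A
          rwa [show g₀⁻¹ * (g₀ * y * g₀⁻¹) * g₀ = y by group]
        constructor
        · intro h
          have h1 : cz (g⁻¹ * z * g) = A := by
            rw [hA₀] at h ⊢
            exact cz_eq S hz₀ h (fun e => (hRm.mp hzR).1 a (by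
              rw [show z = g * (g⁻¹ * z * g) * g⁻¹ by group, e, mul_one, mul_inv_cancel, one_smul]))
          have h2 : A.map (MulAut.conj g).toMonoidHom = cz z := by
            rw [← h1, cz_map]; congr 2; group
          rw [hN, Subgroup.mem_normalizer_iff]
          intro y
          have h3 : ∀ y, g * y * g⁻¹ ∈ cz z ↔ y ∈ A := fun y => by
            rw [← h2]
            exact Subgroup.mem_map_iff_mem (MulAut.conj g).injective
          have h4 : ∀ y, g₀ * y * g₀⁻¹ ∈ cz z ↔ y ∈ A := fun y => by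
            rw [← hg₀]
            exact Subgroup.mem_map_iff_mem (MulAut.conj g₀).injective
          rw [← h3 y, ← h4 (g₀⁻¹ * g * y * (g₀⁻¹ * g)⁻¹)]
          rw [show g₀ * (g₀⁻¹ * g * y * (g₀⁻¹ * g)⁻¹) * g₀⁻¹ = g * y * g⁻¹ by group]
        · intro h
          rw [hN, Subgroup.mem_normalizer_iff] at h
          refine (h _).mpr ?_
          rwa [show g₀⁻¹ * g * (g⁻¹ * z * g) * (g₀⁻¹ * g)⁻¹ = g₀⁻¹ * z * g₀ by group]
      exact Nat.card_congr
        { toFun := fun g => ⟨g₀⁻¹ * g.1, (hiff g.1).mp g.2⟩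
          invFun := fun n => ⟨g₀ * (n : G), (hiff _).mpr (by rw [inv_mul_cancel_left]; exact n.2)⟩
          left_inv := fun g => Subtype.ext (mul_inv_cancel_left g₀ _)
          right_inv := fun n => Subtype.ext (inv_mul_cancel_left g₀ _) }
    have hdc : (Nat.card N : ℝ) * ∑ z ∈ fib, f z =
        (Nat.card G : ℝ) * ∑ w ∈ Finset.univ.filter (fun w => w ∈ A ∧ w ≠ 1), f w := by
      calc (Nat.card N : ℝ) * ∑ z ∈ fib, f z
          = ∑ z ∈ fib, ∑ g : G, if g⁻¹ * z * g ∈ A then f z else 0 := by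
            rw [Finset.mul_sum]
            refine Finset.sum_congr rfl fun z hz => ?_
            rw [← Finset.sum_filter, Finset.sum_const, hcount z hz, nsmul_eq_mul]
        _ = ∑ g : G, ∑ z ∈ fib, if g⁻¹ * z * g ∈ A then f z else 0 := Finset.sum_comm
        _ = ∑ g : G, ∑ w ∈ Finset.univ.filter (fun w => w ∈ A ∧ w ≠ 1), f w := by
            refine Finset.sum_congr rfl fun g _ => ?_
            rw [← Finset.sum_filter]
            refine Finset.sum_bij' (fun z _ => g⁻¹ * z * g) (fun w _ => g * w * g⁻¹) (fun z hz => ?_) (fun w hw => ?_)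
              (fun z _ => by group) (fun w _ => by group) (fun z _ => ?_)
            · obtain ⟨hzf, hzA⟩ := Finset.mem_filter.mp hz
              refine Finset.mem_filter.mpr ⟨Finset.mem_univ _, hzA, fun e => ?_⟩
              exact (hRm.mp (Finset.mem_filter.mp hzf).1).1 a (by
                rw [show z = g * (g⁻¹ * z * g) * g⁻¹ by group, e, mul_one, mul_inv_cancel, one_smul])
            · obtain ⟨-, hwA, hw1⟩ := Finset.mem_filter.mp hw
              refine Finset.mem_filter.mpr ⟨Finset.mem_filter.mpr ⟨hRm.mpr ?_, ?_⟩,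
                by rwa [show g⁻¹ * (g * w * g⁻¹) * g = w by group]⟩
              · exact conj_real S (real_of_mem S hz₀ (hA₀ ▸ hwA) hw1) g
              · rw [← hidem A hA]
                refine (crep_congr g ?_).symm
                rw [hA₀, ← cz_eq S hz₀ (hA₀ ▸ hwA) hw1, cz_map]
            · have := hf g⁻¹ z
              rw [inv_inv] at this
              exact this.symm
        _ = _ := by rw [Finset.sum_const, Finset.card_univ, nsmul_eq_mul, Nat.card_eq_fintype_card]
    have hNne : (Nat.card N : ℝ) ≠ 0 := Nat.cast_ne_zero.mpr Nat.card_pos.ne'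
    rw [← hNcard, div_mul_eq_mul_div, eq_div_iff hNne, mul_comm, hdc]
  have hall : ∀ (f : G → ℝ), (∀ g x, f (g * x * g⁻¹) = f x) →
      ∑ A ∈ s, ((Nat.card G : ℝ) / (Nat.card A * lidx A)) *
        ∑ w ∈ Finset.univ.filter (fun w => w ∈ A ∧ w ≠ 1), f w = ∑ z ∈ R, f z := fun f hf => by
    rw [← Finset.sum_fiberwise_of_maps_to (t := s) (g := fun z => crep (cz z))
      (fun z hz => Finset.mem_image_of_mem _ hz) f]
    exact Finset.sum_congr rfl fun A hA => (hfib f hf A hA).symm
  have hRsub : R ⊆ Finset.univ.filter (fun z : G => ∀ c : Ω, z • c ≠ c) := fun z hz =>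
    Finset.mem_filter.mpr ⟨Finset.mem_univ _, (hRm.mp hz).1⟩
  have hcardA : ∀ A ∈ s, ((Finset.univ.filter fun w => w ∈ A ∧ w ≠ 1).card : ℝ) = (Nat.card A : ℝ) - 1 := by
    intro A hA
    rw [show (Finset.univ.filter fun w => w ∈ A ∧ w ≠ 1) = (Finset.univ.filter fun w => w ∈ A).erase 1 by
        ext w; simp [and_comm],
      Finset.card_erase_of_mem (by simp), Nat.card_eq_fintype_card,
      Fintype.card_of_subtype (Finset.univ.filter fun w => w ∈ A) (fun w => by simp),
      Nat.cast_sub (Finset.card_pos.mpr ⟨1, by simp⟩), Nat.cast_one]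
  refine ⟨s, htor, ?_, ?_, ?_, fun f hf hnn => ?_⟩
  · intro A hA B hB hAB
    obtain ⟨z, hz, hzA⟩ := htor A hA
    obtain ⟨z', hz', hzB⟩ := htor B hB
    rw [hzA, hzB]
    refine coprime_tori S hz hz' ?_
    rwa [← hzA, ← hzB, hidem A hA, hidem B hB]
  · -- count pairs of involutions with product free of fixed points
    have h1 := hall (fun z => (Nat.card (cz z) : ℝ)) (fun g x => by
      show (Nat.card (cz (g * x * g⁻¹)) : ℝ) = _
      rw [← cz_map, Subgroup.card_map_of_injective (MulAut.conj g).injective])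
    have hpairs : 2 * ∑ z ∈ R, Nat.card (cz z) = Nat.card G * q := by
      rw [Finset.sum_congr rfl fun z hz => (card_inverters S (hRm.mp hz)).symm]
      set I := Finset.univ.filter fun x : G => orderOf x = 2 with hI
      have hswap : ∑ z ∈ R, (Finset.univ.filter fun x : G => orderOf x = 2 ∧ x * z * x⁻¹ = z⁻¹).card =
          ∑ x ∈ I, (R.filter fun z => x * z * x⁻¹ = z⁻¹).card := by
        have := Finset.sum_card_bipartiteAbove_eq_sum_card_bipartiteBelow (s := R) (t := I)
          (r := fun z x => x * z * x⁻¹ = z⁻¹)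
        simp only [Finset.bipartiteAbove, Finset.bipartiteBelow, hI, Finset.filter_filter] at this
        exact this
      have hx : ∀ x ∈ I, 2 * (R.filter fun z => x * z * x⁻¹ = z⁻¹).card = Nat.card F * q := by
        intro x hx
        have hx2 : orderOf x = 2 := (Finset.mem_filter.mp hx).2
        obtain ⟨-, hxx⟩ := orderOf_two_iff.mp hx2
        have hxi : x⁻¹ = x := inv_eq_of_mul_eq_one_right hxx
        rw [← card_fpf_products S hx2]
        congr 1
        refine Finset.card_bij' (fun z _ => x * z) (fun y _ => x * y) (fun z hz => ?_) (fun y hy => ?_)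
          (fun z _ => by show x * (x * z) = z; rw [← mul_assoc, hxx, one_mul])
          (fun y _ => by show x * (x * y) = y; rw [← mul_assoc, hxx, one_mul])
        · obtain ⟨hzR, hzi⟩ := Finset.mem_filter.mp hz
          refine Finset.mem_filter.mpr ⟨Finset.mem_filter.mpr ⟨Finset.mem_univ _, orderOf_two_iff.mpr ⟨fun e => ?_, ?_⟩⟩, ?_⟩
          · obtain ⟨p, hp⟩ := invol_fix S hx2
            have : z = x := by
              calc z = x * (x * z) := by rw [← mul_assoc, hxx, one_mul]
                _ = x := by rw [e, mul_one]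
            exact (hRm.mp hzR).1 p (by rw [this]; exact (hp p).mpr rfl)
          · calc x * z * (x * z) = x * z * x * z := by group
              _ = x * z * x⁻¹ * z := by rw [hxi]
              _ = 1 := by rw [hzi, inv_mul_cancel]
          · intro c hc
            rw [← mul_assoc, hxx, one_mul] at hc
            exact (hRm.mp hzR).1 c hc
        · obtain ⟨hyI, hyf⟩ := Finset.mem_filter.mp hy
          obtain ⟨-, hyy⟩ := orderOf_two_iff.mp (Finset.mem_filter.mp hyI).2
          have hinv : x * (x * y) * x⁻¹ = (x * y)⁻¹ := by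
            rw [mul_inv_rev, hxi, inv_eq_of_mul_eq_one_right hyy, ← mul_assoc, hxx, one_mul]
          exact Finset.mem_filter.mpr ⟨hRm.mpr ⟨hyf, x, hx2, hinv⟩, hinv⟩
      rw [hswap, Finset.mul_sum, Finset.sum_congr rfl hx, Finset.sum_const, smul_eq_mul, card_invol S, card_Ω S,
        card_G S]
      ring
    have hpairs' : 2 * ∑ z ∈ R, (Nat.card (cz z) : ℝ) = (Nat.card G : ℝ) * q := by exact_mod_cast hpairs
    rw [← h1] at hpairs'
    have hG : (Nat.card G : ℝ) ≠ 0 := Nat.cast_ne_zero.mpr Nat.card_pos.ne'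
    have h2 : ∀ A ∈ s, ((Nat.card G : ℝ) / (Nat.card A * lidx A)) *
        ∑ w ∈ Finset.univ.filter (fun w => w ∈ A ∧ w ≠ 1), (Nat.card (cz w) : ℝ) =
        (Nat.card G : ℝ) * (((Nat.card A : ℝ) - 1) / lidx A) := by
      intro A hA
      obtain ⟨z₀, hz₀, hA₀⟩ := htor A hA
      rw [Finset.sum_congr rfl (g := fun _ => (Nat.card A : ℝ)) fun w hw => by
        obtain ⟨-, hwA, hw1⟩ := Finset.mem_filter.mp hw
        rw [cz_eq S hz₀ (hA₀ ▸ hwA) hw1, ← hA₀], Finset.sum_const, nsmul_eq_mul, hcardA A hA]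
      have : (Nat.card A : ℝ) ≠ 0 := Nat.cast_ne_zero.mpr Nat.card_pos.ne'
      field_simp
    rw [Finset.sum_congr rfl h2, ← Finset.mul_sum, ← mul_assoc, mul_comm (2 : ℝ), mul_assoc] at hpairs'
    have h3 := mul_left_cancel₀ hG hpairs'
    have h4 : (((∑ A ∈ s, ((Nat.card A : ℚ) - 1) / lidx A : ℚ)) : ℝ) = ((q : ℚ) / 2 : ℚ) := by
      push_cast
      linarith
    exact_mod_cast h4
  · have h1 := hall (fun _ => (1 : ℝ)) (fun _ _ => rfl)
    have h2 : (R.card : ℝ) ≤ ((Finset.univ.filter fun z : G => ∀ c : Ω, z • c ≠ c).card : ℝ) := by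
      exact_mod_cast Finset.card_le_card hRsub
    have h3 := card_fpf S
    have h3' : 2 * ((Finset.univ.filter fun z : G => ∀ c : Ω, z • c ≠ c).card : ℝ) =
        (Nat.card F : ℝ) * (((Nat.card F : ℝ) + 1) * q - 2 * Nat.card F) := by exact_mod_cast h3
    rw [Finset.sum_congr (s₁ := s) rfl
      (g := fun A : Subgroup G => (Nat.card G : ℝ) * (((Nat.card A : ℝ) - 1) / (Nat.card A * lidx A)))
      fun A hA => by rw [Finset.sum_const, nsmul_eq_mul, mul_one, hcardA A hA]; ring, ← Finset.mul_sum,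
      card_G S, Finset.sum_const, nsmul_eq_mul, mul_one] at h1
    have hh : (0 : ℝ) < Nat.card F := Nat.cast_pos.mpr Nat.card_pos
    have hq : 1 ≤ q := by have := S.four_le; omega
    push_cast [Nat.cast_sub hq] at h1
    have h4 : (((∑ A ∈ s, ((Nat.card A : ℚ) - 1) / (Nat.card A * lidx A)) * (((Nat.card F : ℚ) + 1) * ((q : ℚ) - 1)) : ℚ) : ℝ) ≤
        ((((Nat.card F : ℚ) + 1) * q / 2 - Nat.card F : ℚ) : ℝ) := by
      push_cast
      nlinarith
    exact_mod_cast h4
  · rw [hall f hf]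
    exact Finset.sum_le_sum_of_subset_of_nonneg hRsub fun z _ _ => hnn z

end Cfsg.Agent.ZassSuz
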