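import Cfsg.Agent.Lib.ZassSuz.Cube

/-!
# Simple Zassenhaus groups with a nonabelian 2-group kernel
-/

set_option autoImplicit false
set_option linter.all false

namespace Cfsg.Agent.ZassSuz

open MulAction Cfsg.Agent.PermGp.ZEven

universe u v

variable {G : Type u} {Ω : Type v} [Group G] [MulAction G Ω]

/-- The order is a Suzuki order. -/
theorem is_suzuki [Finite G] [Fintype Ω] (hZ : Cfsg.IsZassenhausGroup G Ω) [IsSimpleGroup G] {a b : Ω}
    (hab : a ≠ b) {F : Subgroup G} (hF : ZKer a F) (h2 : IsPGroup 2 F) (hna : ∃ u v : F, u * v ≠ v * u) :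
    Cfsg.IsSuzuki G := by
  haveI := Fintype.ofFinite G
  obtain ⟨q, S⟩ := exists_sdata hZ hab hF h2 hna
  rcases S.card_F with h | h
  · exact ⟨inferInstance, suzuki_order S h⟩
  · exact (not_cube S h).elim

end Cfsg.Agent.ZassSuz
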