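import Cfsg.Agent.Lib.ZassSuz.Setup
import Cfsg.Agent.Lib.ZassOddCount.Main

/-!
# Elements with and without fixed points
-/

set_option autoImplicit false
set_option linter.all false

namespace Cfsg.Agent.ZassSuz

open MulAction Cfsg.Agent.PermGp.ZEven

universe u v

variable {G : Type u} {Ω : Type v} [Group G] [MulAction G Ω] [Fintype G] [Fintype Ω] {a b : Ω}
  {F : Subgroup G} {q : ℕ} (S : SData G Ω a b F q)
include S

theorem frame {c d : Ω} (hcd : c ≠ d) : ∃ g : G, g • a = c ∧ g • b = d :=
  PermGp.two_trans_exists S.data.grp.two S.data.ne hcd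

theorem frame_one (p : Ω) : ∃ g : G, g • a = p := by
  obtain ⟨d, hd, -⟩ := S.data.grp.exists_third p p
  obtain ⟨g, hg, -⟩ := frame S hd.symm
  exact ⟨g, hg⟩

/-- An element exchanging two points inverts their stabiliser. -/
theorem inv_frame {c d : Ω} (hcd : c ≠ d) {s k : G} (hsc : s • c = d) (hsd : s • d = c) (hkc : k • c = c)
    (hkd : k • d = d) : s * k * s⁻¹ = k⁻¹ := by
  obtain ⟨g, hga, hgb⟩ := frame S hcd
  have h := S.data.inv (g⁻¹ * s * g)
    (by rw [mul_smul, mul_smul, hga, hsc, inv_smul_eq_iff, hgb])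
    (by rw [mul_smul, mul_smul, hgb, hsd, inv_smul_eq_iff, hga])
    (g⁻¹ * k * g) (Subgroup.mem_inf.mpr ⟨by rw [mem_stabilizer_iff, mul_smul, mul_smul, hga, hkc, inv_smul_eq_iff, hga],
      by rw [mem_stabilizer_iff, mul_smul, mul_smul, hgb, hkd, inv_smul_eq_iff, hgb]⟩)
  calc s * k * s⁻¹ = g * (g⁻¹ * s * g * (g⁻¹ * k * g) * (g⁻¹ * s * g)⁻¹) * g⁻¹ := by group
    _ = k⁻¹ := by rw [h]; group

theorem stab_card_cd {c d : Ω} (hcd : c ≠ d) :
    Nat.card ↥(stabilizer G c ⊓ stabilizer G d : Subgroup G) + 1 = q := by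
  rw [ZassOdd.stab_card_eq S.data.grp S.data.ne hcd]
  exact S.stab

theorem sq_fix {x : G} (hx : x * x = 1) {c d : Ω} (hcd : c ≠ d) (hc : x • c = c) (hd : x • d = d) : x = 1 := by
  by_contra h1
  have h2 := orderOf_two_iff.mpr ⟨h1, hx⟩
  have h3 := Subgroup.orderOf_dvd_natCard (stabilizer G c ⊓ stabilizer G d) (x := x)
    (Subgroup.mem_inf.mpr ⟨hc, hd⟩)
  rw [h2, ZassOdd.stab_card_eq S.data.grp S.data.ne hcd] at h3
  exact (Nat.not_even_iff_odd.mpr S.data.odd) (even_iff_two_dvd.mpr h3)

theorem mem_F_of_only {x : G} (hx : x • a = a) (h : ∀ c, x • c = c → c = a) : x ∈ F := by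
  by_contra hF
  obtain ⟨c, hca, hc⟩ := ZassNormal.exists_ne_fixed S.data.ker S.data.grp hx hF
  exact hca (h c hc)

theorem exists_invol : ∃ t : G, t ∈ F ∧ orderOf t = 2 := by
  have h := S.card_inv
  have h4 := S.four_le
  obtain ⟨⟨t, ht⟩⟩ : Nonempty {x : G // x ∈ F ∧ orderOf x = 2} := by
    refine (Nat.card_pos_iff.mp ?_).1
    omega
  exact ⟨t, ht⟩

theorem invol_conj_mem {x : G} (hx : orderOf x = 2) : ∃ g : G, g⁻¹ * x * g ∈ F := by
  obtain ⟨t, htF, ht⟩ := exists_invol S
  obtain ⟨g, hg⟩ := isConj_iff.mp (S.conj t x ht hx)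
  exact ⟨g, by rw [← hg]; simpa [mul_assoc] using htF⟩

/-- An involution fixes exactly one point. -/
theorem invol_fix {x : G} (hx : orderOf x = 2) : ∃ p : Ω, ∀ c : Ω, x • c = c ↔ c = p := by
  obtain ⟨g, hg⟩ := invol_conj_mem S hx
  refine ⟨g • a, fun c => ⟨fun hc => ?_, fun hc => ?_⟩⟩
  · have hne : g⁻¹ * x * g ≠ 1 := fun e => (orderOf_two_iff.mp hx).1 (by
      calc x = g * (g⁻¹ * x * g) * g⁻¹ := by group
        _ = 1 := by rw [e]; group)
    have := ZassOdd.Main.fix_only S.data hg hne (c := g⁻¹ • c) (by rw [mul_smul, mul_smul, smul_inv_smul, hc])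
    rw [← this, smul_inv_smul]
  · subst hc
    have h := S.data.ker.fix _ hg
    rw [mul_smul, mul_smul, inv_smul_eq_iff] at h
    exact h

/-- The centraliser of an involution lies in a conjugate of the kernel. -/
theorem invol_cent {x : G} (hx : orderOf x = 2) :
    ∃ g : G, g⁻¹ * x * g ∈ F ∧ ∀ y : G, y * x = x * y → g⁻¹ * y * g ∈ F := by
  obtain ⟨g, hg⟩ := invol_conj_mem S hx
  have hne : g⁻¹ * x * g ≠ 1 := fun e => (orderOf_two_iff.mp hx).1 (by
    calc x = g * (g⁻¹ * x * g) * g⁻¹ := by group
      _ = 1 := by rw [e]; group)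
  refine ⟨g, hg, fun y hy => ZassOdd.Main.cent_le S.data hg hne (Subgroup.mem_centralizer_singleton_iff.mpr ?_)⟩
  calc g⁻¹ * y * g * (g⁻¹ * x * g) = g⁻¹ * (y * x) * g := by group
    _ = g⁻¹ * x * g * (g⁻¹ * y * g) := by rw [hy]; group

open Classical in
theorem card_invol_at (p : Ω) :
    (Finset.univ.filter fun x : G => orderOf x = 2 ∧ x • p = p).card + 1 = q := by
  rw [← S.card_inv]
  congr 1
  obtain ⟨g, hg⟩ := frame_one S p
  rw [← Fintype.card_subtype, ← Nat.card_eq_fintype_card]
  refine Nat.card_congr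
    { toFun := fun x => ⟨g⁻¹ * x.1 * g, ?_, ?_⟩
      invFun := fun x => ⟨g * x.1 * g⁻¹, ?_, ?_⟩
      left_inv := fun x => Subtype.ext (by show g * (g⁻¹ * x.1 * g) * g⁻¹ = x.1; group)
      right_inv := fun x => Subtype.ext (by show g⁻¹ * (g * x.1 * g⁻¹) * g = x.1; group) }
  · obtain ⟨r, hr⟩ := invol_fix S x.2.1
    refine mem_F_of_only S (by rw [mul_smul, mul_smul, hg, x.2.2, inv_smul_eq_iff, hg]) fun c hc => ?_
    rw [mul_smul, mul_smul, inv_smul_eq_iff] at hc
    have h2 := (hr _).mp hc
    rw [← (hr p).mp x.2.2, ← hg] at h2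
    exact MulAction.injective g h2
  · refine Eq.trans ?_ x.2.1
    simpa using orderOf_injective (MulAut.conj g⁻¹).toMonoidHom (MulAut.conj g⁻¹).injective x.1
  · refine Eq.trans ?_ x.2.2
    exact orderOf_injective (MulAut.conj g).toMonoidHom (MulAut.conj g).injective x.1
  · rw [mul_smul, mul_smul, inv_smul_eq_iff.mpr hg.symm, S.data.ker.fix _ x.2.1, hg]

open Classical in
theorem card_invol :
    (Finset.univ.filter fun x : G => orderOf x = 2).card = Fintype.card Ω * (q - 1) := by
  have h : ∀ x : G, orderOf x = 2 → (Finset.univ.filter fun p : Ω => x • p = p).card = 1 := fun x hx => by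
    obtain ⟨p, hp⟩ := invol_fix S hx
    exact Finset.card_eq_one.mpr ⟨p, Finset.ext fun c => by simp [hp c]⟩
  calc (Finset.univ.filter fun x : G => orderOf x = 2).card
      = ∑ x ∈ Finset.univ.filter (fun x : G => orderOf x = 2),
          (Finset.univ.filter fun p : Ω => x • p = p).card := by
        rw [Finset.sum_congr rfl fun x hx => h x (Finset.mem_filter.mp hx).2, Finset.sum_const, smul_eq_mul, mul_one]
    _ = ∑ p : Ω, ((Finset.univ.filter fun x : G => orderOf x = 2).filter fun x => x • p = p).card :=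
        Finset.sum_card_bipartiteAbove_eq_sum_card_bipartiteBelow _
    _ = Fintype.card Ω * (q - 1) := by
        rw [Finset.sum_congr rfl (g := fun _ => q - 1) fun p _ => by
          have := card_invol_at S p
          rw [Finset.filter_filter]
          omega, Finset.sum_const, Finset.card_univ, smul_eq_mul]

theorem card_Ω : Fintype.card Ω = Nat.card F + 1 := (S.data.ker.card_add_one S.data.ne).symm

theorem card_G : Nat.card G = (Nat.card F + 1) * Nat.card F * (q - 1) := by
  have hq := S.stab
  rw [card_group S.data.ker S.data.grp S.data.ne, card_Ω S,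
    show Nat.card ↥(stabilizer G a ⊓ stabilizer G b) = q - 1 by omega, mul_assoc]

open Classical in
theorem card_only_at (p : Ω) :
    (Finset.univ.filter fun x : G => x ≠ 1 ∧ ∀ c : Ω, x • c = c ↔ c = p).card + 1 = Nat.card F := by
  obtain ⟨g, hg⟩ := frame_one S p
  haveI := Fintype.ofFinite F
  rw [← Fintype.card_subtype, ← Nat.card_eq_fintype_card]
  have h : Nat.card {x : F // x ≠ 1} + 1 = Nat.card F := by
    rw [Nat.card_eq_fintype_card, Fintype.card_subtype_compl, Fintype.card_subtype_eq, Nat.card_eq_fintype_card]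
    have : 0 < Fintype.card F := Fintype.card_pos
    omega
  rw [← h]
  congr 1
  refine Nat.card_congr
    { toFun := fun x => ⟨⟨g⁻¹ * x.1 * g, ?_⟩, fun e => x.2.1 ?_⟩
      invFun := fun x => ⟨g * (x.1 : G) * g⁻¹, ?_, ?_⟩
      left_inv := fun x => Subtype.ext (by show g * (g⁻¹ * x.1 * g) * g⁻¹ = x.1; group)
      right_inv := fun x => Subtype.ext (Subtype.ext (by show g⁻¹ * (g * (x.1 : G) * g⁻¹) * g = (x.1 : G); group)) }
  · refine mem_F_of_only S (by rw [mul_smul, mul_smul, hg, (x.2.2 p).mpr rfl, inv_smul_eq_iff, hg]) fun c hc => ?_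
    rw [mul_smul, mul_smul, inv_smul_eq_iff] at hc
    have h2 := (x.2.2 _).mp hc
    rw [← hg] at h2
    exact MulAction.injective g h2
  · have h1 : g⁻¹ * x.1 * g = 1 := congrArg Subtype.val e
    calc x.1 = g * (g⁻¹ * x.1 * g) * g⁻¹ := by group
      _ = 1 := by rw [h1]; group
  · exact fun e => x.2 (Subtype.ext (conj_eq_one_iff.mp e))
  · intro c
    rw [mul_smul, mul_smul, smul_eq_iff_eq_inv_smul]
    refine ⟨fun hc => ?_, fun hc => ?_⟩
    · have := ZassOdd.Main.fix_only S.data x.1.2 (fun e => x.2 (Subtype.ext e)) hc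
      rw [inv_smul_eq_iff, hg] at this
      exact this
    · subst hc
      rw [inv_smul_eq_iff.mpr hg.symm]
      exact S.data.ker.fix _ x.1.2

open Classical in
/-- The number of elements without fixed points. -/
theorem card_fpf :
    2 * ((Finset.univ.filter fun x : G => ∀ c : Ω, x • c ≠ c).card : ℤ) =
      Nat.card F * ((Nat.card F + 1) * q - 2 * Nat.card F) := by
  let fx : G → Finset Ω := fun x => Finset.univ.filter fun c => x • c = c
  have hfx : ∀ x c, c ∈ fx x ↔ x • c = c := fun x c => by simp [fx]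
  have hle : ∀ x : G, x ≠ 1 → (fx x).card ≤ 2 := by
    intro x hx1
    by_contra hlt
    push Not at hlt
    obtain ⟨c, d, e, hc, hd, he, hcd, hce, hde⟩ := Finset.two_lt_card_iff.mp hlt
    exact hx1 (S.data.grp.three x c d e hcd hde hce ((hfx x c).mp hc) ((hfx x d).mp hd) ((hfx x e).mp he))
  have h1 : (fx 1).card = Fintype.card Ω := by
    rw [show fx 1 = Finset.univ from Finset.ext fun c => by simp [fx], Finset.card_univ]
  have hpairs : ∑ x : G, ((fx x).card * (fx x).card - (fx x).card) =
      Fintype.card Ω * (Fintype.card Ω - 1) * (q - 1) := by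
    have h2 : ∀ x : G, (fx x).card * (fx x).card - (fx x).card =
        ((Finset.univ : Finset Ω).offDiag.filter fun p => x • p.1 = p.1 ∧ x • p.2 = p.2).card := fun x => by
      rw [← Finset.offDiag_card]
      congr 1
      ext p
      simp only [fx, Finset.mem_offDiag, Finset.mem_filter, Finset.mem_univ, true_and]
      tauto
    rw [Finset.sum_congr rfl fun x _ => h2 x]
    refine (Finset.sum_card_bipartiteAbove_eq_sum_card_bipartiteBelow _).trans ?_
    rw [Finset.sum_congr rfl (g := fun _ => q - 1) fun p hp => ?_, Finset.sum_const, Finset.offDiag_card,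
      Finset.card_univ, smul_eq_mul]
    · congr 1
      rw [Nat.mul_sub, mul_one]
    · have hcd := stab_card_cd S (Finset.mem_offDiag.mp hp).2.2
      rw [← Fintype.card_of_subtype _ (p := fun x : G => x ∈ (stabilizer G p.1 ⊓ stabilizer G p.2 : Subgroup G))
        (fun x => by simp [Finset.bipartiteBelow, Subgroup.mem_inf, mem_stabilizer_iff]), ← Nat.card_eq_fintype_card]
      show Nat.card ↥(stabilizer G p.1 ⊓ stabilizer G p.2 : Subgroup G) = q - 1
      omega
  have hone : (Finset.univ.filter fun x : G => x ≠ 1 ∧ (fx x).card = 1).card + Fintype.card Ω =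
      Fintype.card Ω * Nat.card F := by
    have h3 : ∑ x ∈ Finset.univ.filter (fun x : G => x ≠ 1 ∧ (fx x).card = 1),
        (Finset.univ.filter fun p : Ω => ∀ c : Ω, x • c = c ↔ c = p).card =
        (Finset.univ.filter fun x : G => x ≠ 1 ∧ (fx x).card = 1).card := by
      rw [Finset.sum_congr rfl (g := fun _ => 1) fun x hx => ?_, Finset.sum_const, smul_eq_mul, mul_one]
      obtain ⟨p, hp⟩ := Finset.card_eq_one.mp (Finset.mem_filter.mp hx).2.2
      refine Finset.card_eq_one.mpr ⟨p, Finset.ext fun r => ?_⟩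
      simp only [Finset.mem_filter, Finset.mem_univ, true_and, Finset.mem_singleton]
      constructor
      · intro h
        have hr : r ∈ fx x := (hfx x r).mpr ((h r).mpr rfl)
        rw [hp, Finset.mem_singleton] at hr
        exact hr
      · rintro rfl c
        rw [← hfx x c, hp, Finset.mem_singleton]
    rw [← h3]
    refine (congrArg (· + Fintype.card Ω)
      (Finset.sum_card_bipartiteAbove_eq_sum_card_bipartiteBelow (r := fun (x : G) (p : Ω) => ∀ c : Ω, x • c = c ↔ c = p))).trans ?_
    rw [Finset.sum_congr rfl (g := fun _ => Nat.card F - 1) fun p _ => ?_, Finset.sum_const, Finset.card_univ,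
      smul_eq_mul, Nat.mul_sub, mul_one, Nat.sub_add_cancel (Nat.le_mul_of_pos_right _ Nat.card_pos)]
    rw [← card_only_at S p, Nat.add_sub_cancel]
    congr 1
    ext x
    simp only [Finset.bipartiteBelow, Finset.mem_filter, Finset.mem_univ, true_and]
    refine ⟨fun h => ⟨h.1.1, h.2⟩, fun h => ⟨⟨h.1, ?_⟩, h.2⟩⟩
    exact Finset.card_eq_one.mpr ⟨p, Finset.ext fun c => by rw [hfx, h.2 c, Finset.mem_singleton]⟩
  set Z0 := Finset.univ.filter fun x : G => ∀ c : Ω, x • c ≠ c with hZ0
  set Z1 := Finset.univ.filter fun x : G => x ≠ 1 ∧ (fx x).card = 1 with hZ1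
  set Z2 := Finset.univ.filter fun x : G => x ≠ 1 ∧ (fx x).card = 2 with hZ2
  have hpart : ∀ x : G, (if x ∈ Z0 then 1 else 0) + (if x ∈ Z1 then 1 else 0) + (if x ∈ Z2 then 1 else 0) +
      (if x = 1 then 1 else 0) = (1 : ℕ) := by
    intro x
    have h0 : x ∈ Z0 ↔ (fx x).card = 0 := by
      rw [Finset.card_eq_zero, Finset.eq_empty_iff_forall_notMem]
      simp [hZ0, hfx]
    by_cases hx1 : x = 1
    · subst hx1
      have hpos : 0 < Fintype.card Ω := Fintype.card_pos_iff.mpr ⟨a⟩
      rw [if_neg (show (1 : G) ∉ Z0 by rw [h0, h1]; omega), if_neg (by simp [hZ1]), if_neg (by simp [hZ2]), if_pos rfl]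
    · rw [if_neg hx1]
      have := hle x hx1
      simp only [h0, hZ1, hZ2, Finset.mem_filter, Finset.mem_univ, true_and, ne_eq, hx1, not_false_eq_true]
      interval_cases (fx x).card <;> simp
  have htot := Finset.sum_congr (s₁ := (Finset.univ : Finset G)) rfl (fun x _ => hpart x)
  simp only [Finset.sum_add_distrib, Finset.sum_ite_mem, Finset.univ_inter, Finset.sum_const, smul_eq_mul, mul_one,
    Finset.sum_ite_eq', Finset.mem_univ, if_true, Finset.card_univ] at htot
  have htwo : ∀ x : G, (fx x).card * (fx x).card - (fx x).card = (if x ∈ Z2 then 2 else 0) +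
      (if x = 1 then Fintype.card Ω * Fintype.card Ω - Fintype.card Ω else 0) := by
    intro x
    by_cases hx1 : x = 1
    · subst hx1
      rw [if_neg (by simp [hZ2]), if_pos rfl, h1, zero_add]
    · rw [if_neg hx1, add_zero]
      have := hle x hx1
      simp only [hZ2, Finset.mem_filter, Finset.mem_univ, true_and, ne_eq, hx1, not_false_eq_true]
      interval_cases (fx x).card <;> simp
  rw [Finset.sum_congr rfl fun x _ => htwo x, Finset.sum_add_distrib, Finset.sum_ite_mem, Finset.univ_inter,
    Finset.sum_const, smul_eq_mul, Finset.sum_ite_eq', if_pos (Finset.mem_univ _)] at hpairs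
  rw [← Nat.card_eq_fintype_card (α := G), card_G S] at htot
  rw [card_Ω S] at hpairs hone
  obtain ⟨e, he⟩ : ∃ e, q = e + 1 := ⟨q - 1, by have := S.four_le; omega⟩
  subst he
  rw [Nat.add_sub_cancel] at hpairs htot
  rw [Nat.add_sub_cancel, show (Nat.card F + 1) * (Nat.card F + 1) - (Nat.card F + 1) = (Nat.card F + 1) * Nat.card F by
    rw [show (Nat.card F + 1) * (Nat.card F + 1) = (Nat.card F + 1) * Nat.card F + (Nat.card F + 1) by ring,
      Nat.add_sub_cancel]] at hpairs
  have hpairs' : (Z2.card : ℤ) * 2 + ((Nat.card F : ℤ) + 1) * Nat.card F =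
      ((Nat.card F : ℤ) + 1) * Nat.card F * e := by exact_mod_cast hpairs
  have hone' : (Z1.card : ℤ) + ((Nat.card F : ℤ) + 1) = ((Nat.card F : ℤ) + 1) * Nat.card F := by exact_mod_cast hone
  have htot' : (Z0.card : ℤ) + Z1.card + Z2.card + 1 = ((Nat.card F : ℤ) + 1) * Nat.card F * e := by
    exact_mod_cast htot
  push_cast
  linear_combination 2 * htot' - 2 * hone' - hpairs'

open Classical in
/-- For an involution, the number of involutions with which it has a fixed-point-free product. -/
theorem card_fpf_products {x : G} (hx : orderOf x = 2) :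
    2 * ((Finset.univ.filter fun y : G => orderOf y = 2).filter fun y => ∀ c : Ω, (x * y) • c ≠ c).card =
      Nat.card F * q := by
  obtain ⟨p, hp⟩ := invol_fix S hx
  obtain ⟨hx1, hxx⟩ := orderOf_two_iff.mp hx
  have hxi : ∀ c : Ω, x • x • c = c := fun c => by rw [← mul_smul, hxx, one_smul]
  set I := Finset.univ.filter fun y : G => orderOf y = 2 with hI
  have hIm : ∀ {y}, y ∈ I ↔ orderOf y = 2 := fun {y} => by simp [hI]
  set good := I.filter fun y => ∀ c : Ω, (x * y) • c ≠ c with hgood
  set same := I.filter fun y => y • p = p with hsame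
  set bad := I.filter fun y => y • p ≠ p ∧ ∃ c : Ω, y • c = x • c with hbad
  have hsamec : same.card + 1 = q := by
    rw [hsame, hI, Finset.filter_filter]
    exact card_invol_at S p
  have hgoodiff : ∀ {y}, (∀ c : Ω, (x * y) • c ≠ c) ↔ ¬ ∃ c : Ω, y • c = x • c := by
    intro y
    push Not
    refine forall_congr' fun c => not_congr ?_
    rw [mul_smul]
    refine ⟨fun e => ?_, fun e => by rw [e, hxi]⟩
    conv_rhs => rw [← e]
    rw [hxi]
  have hsplit : good.card + same.card + bad.card = I.card := by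
    have hu : good ∪ same ∪ bad = I := by
      ext y
      simp only [Finset.mem_union, hgood, hsame, hbad, Finset.mem_filter, hgoodiff]
      constructor
      · rintro ((⟨h, -⟩ | ⟨h, -⟩) | ⟨h, -⟩) <;> exact h
      · intro h
        by_cases h' : y • p = p
        · exact Or.inl (Or.inr ⟨h, h'⟩)
        · by_cases h'' : ∃ c : Ω, y • c = x • c
          · exact Or.inr ⟨h, h', h''⟩
          · exact Or.inl (Or.inl ⟨h, h''⟩)
    have d1 : Disjoint good same := Finset.disjoint_filter.mpr fun y _ hy hyp =>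
      hgoodiff.mp hy ⟨p, by rw [hyp, (hp p).mpr rfl]⟩
    have d2 : Disjoint (good ∪ same) bad := Finset.disjoint_union_left.mpr
      ⟨Finset.disjoint_filter.mpr fun y _ hy hyb => hgoodiff.mp hy hyb.2,
        Finset.disjoint_filter.mpr fun y _ hy hyb => hyb.1 hy⟩
    rw [← hu, Finset.card_union_of_disjoint d2, Finset.card_union_of_disjoint d1]
  -- count pairs of a bad involution and a point moved alike
  have hbadc : 2 * bad.card = Nat.card F * (q - 2) := by
    have hmem : ∀ y ∈ bad, ((Finset.univ.erase p).filter fun c => y • c = x • c).card = 2 := by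
      intro y hy
      obtain ⟨hyI, hyp, c, hc⟩ := Finset.mem_filter.mp hy
      have hyy := (orderOf_two_iff.mp (hIm.mp hyI)).2
      have hcp : c ≠ p := fun e => hyp (by rw [← e, hc, e, (hp p).mpr rfl])
      have hxc : x • c ≠ c := fun e => hcp ((hp c).mp e)
      have hc' : y • (x • c) = x • (x • c) := by
        rw [hxi, ← hc, ← mul_smul, hyy, one_smul]
      refine Finset.card_eq_two.mpr ⟨c, x • c, Ne.symm hxc, Finset.ext fun d => ?_⟩
      simp only [Finset.mem_filter, Finset.mem_erase, Finset.mem_univ, and_true, Finset.mem_insert,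
        Finset.mem_singleton]
      constructor
      · rintro ⟨hdp, hd⟩
        by_contra hcon
        push Not at hcon
        have hz : x * y = 1 := S.data.grp.three (x * y) c (x • c) d (Ne.symm hxc) (Ne.symm hcon.2) (Ne.symm hcon.1)
          (by rw [mul_smul, hc, hxi]) (by rw [mul_smul, hc', hxi]) (by rw [mul_smul, hd, hxi])
        refine hyp ?_
        rw [show y = x by
          rw [eq_comm, ← inv_eq_of_mul_eq_one_right hz, inv_eq_of_mul_eq_one_right hxx]]
        exact (hp p).mpr rfl
      · rintro (rfl | rfl)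
        · exact ⟨hcp, hc⟩
        · refine ⟨fun e => hcp ?_, hc'⟩
          have := congrArg (x • ·) e
          simp only [hxi, (hp p).mpr rfl] at this
          exact this
    have hswap : ∑ y ∈ bad, ((Finset.univ.erase p).filter fun c => y • c = x • c).card =
        ∑ c ∈ Finset.univ.erase p, (bad.filter fun y => y • c = x • c).card :=
      Finset.sum_card_bipartiteAbove_eq_sum_card_bipartiteBelow _
    rw [Finset.sum_congr rfl hmem, Finset.sum_const, smul_eq_mul] at hswap
    rw [mul_comm, hswap, Finset.sum_congr rfl (g := fun _ => q - 2) fun c hc => ?_, Finset.sum_const,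
      Finset.card_erase_of_mem (Finset.mem_univ _), Finset.card_univ, card_Ω S, smul_eq_mul, Nat.add_sub_cancel]
    have hcp := Finset.ne_of_mem_erase hc
    have hxc : x • c ≠ c := fun e => hcp ((hp c).mp e)
    set d := x • c with hd
    have hE := stab_card_cd S (Ne.symm hxc)
    -- the involutions moving `c` like `x`
    have hall : (I.filter fun y => y • c = d).card + 1 = q := by
      rw [← hE]
      congr 1
      rw [← Fintype.card_coe, ← Nat.card_eq_fintype_card]
      refine Nat.card_congr
        { toFun := fun y => ⟨x⁻¹ * y.1, ?_⟩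
          invFun := fun k => ⟨x * (k : G), ?_⟩
          left_inv := fun y => Subtype.ext (mul_inv_cancel_left x _)
          right_inv := fun k => Subtype.ext (inv_mul_cancel_left x _) }
      · obtain ⟨hyI, hyc⟩ := Finset.mem_filter.mp y.2
        refine Subgroup.mem_inf.mpr ⟨?_, ?_⟩
        · rw [mem_stabilizer_iff, mul_smul, hyc, inv_smul_eq_iff]
        · have hyd : (y : G) • d = c := by
            have h5 := congrArg ((y : G) • ·) hyc
            simp only [← mul_smul, (orderOf_two_iff.mp (hIm.mp hyI)).2, one_smul] at h5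
            exact h5.symm
          rw [mem_stabilizer_iff, mul_smul, hyd, inv_smul_eq_iff, hd, hxi]
      · obtain ⟨hkc, hkd⟩ := Subgroup.mem_inf.mp k.2
        refine Finset.mem_filter.mpr ⟨hIm.mpr (orderOf_two_iff.mpr ⟨fun e => hxc ?_, ?_⟩), ?_⟩
        · have : (x * (k : G)) • c = c := by rw [e, one_smul]
          rwa [mul_smul, mem_stabilizer_iff.mp hkc] at this
        · have h := inv_frame S (Ne.symm hxc) (s := x) (k := (k : G)) rfl (hxi c) hkc hkd
          calc x * (k : G) * (x * (k : G)) = (x * (k : G) * x⁻¹) * (x * x) * k := by group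
            _ = 1 := by rw [h, hxx]; group
        · rw [mul_smul, mem_stabilizer_iff.mp hkc]
    have herase : bad.filter (fun y => y • c = d) = (I.filter fun y => y • c = d).erase x := by
      ext y
      simp only [hbad, Finset.mem_filter, Finset.mem_erase]
      constructor
      · rintro ⟨⟨hyI, hyp, -⟩, hyc⟩
        exact ⟨fun e => hyp (e ▸ (hp p).mpr rfl), hyI, hyc⟩
      · rintro ⟨hyx, hyI, hyc⟩
        refine ⟨⟨hyI, fun hyp => hyx ?_, c, hyc⟩, hyc⟩
        have hyy := (orderOf_two_iff.mp (hIm.mp hyI)).2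
        have hz : x⁻¹ * y = 1 := S.data.grp.three (x⁻¹ * y) c d p (Ne.symm hxc)
          (fun e => hcp (by rw [hd] at e; have := congrArg (x • ·) e; simpa [hxi, (hp p).mpr rfl] using this))
          hcp (by rw [mul_smul, hyc, inv_smul_eq_iff])
          (by rw [mul_smul, ← hyc, ← mul_smul y, hyy, one_smul, inv_smul_eq_iff, hyc, hd, hxi])
          (by rw [mul_smul, hyp, inv_smul_eq_iff, (hp p).mpr rfl])
        exact (inv_mul_eq_one.mp hz).symm
    rw [herase, Finset.card_erase_of_mem
      (show x ∈ I.filter (fun y => y • c = d) from Finset.mem_filter.mpr ⟨hIm.mpr hx, hd.symm⟩)]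
    omega
  have hIc : I.card = Fintype.card Ω * (q - 1) := card_invol S
  rw [card_Ω S] at hIc
  have hqq := S.four_le
  obtain ⟨r, rfl⟩ : ∃ r, q = r + 2 := ⟨q - 2, by omega⟩
  rw [Nat.add_sub_cancel] at hbadc
  rw [show r + 2 - 1 = r + 1 by omega] at hIc
  have : same.card = r + 1 := by omega
  nlinarith

end Cfsg.Agent.ZassSuz
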