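import Cfsg.Agent.Lib.ZassOddCount.Main
import Cfsg.Agent.Lib.ZassOddCount.Counting
import Cfsg.Agent.Lib.PermGp.ZassenhausEven.Kernel
import Cfsg.Agent.S0345
import Cfsg.Agent.S1137
import Cfsg.Agent.S1138

/-!
# Simple Zassenhaus groups with a nonabelian 2-group kernel: the kernel is a Suzuki 2-group
-/

set_option autoImplicit false
set_option linter.all false

namespace Cfsg.Agent.ZassSuz

open MulAction Cfsg.Agent.PermGp.ZEven

universe u v

variable {G : Type u} {Ω : Type v} [Group G] [MulAction G Ω]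

/-- What is used in the order computation. -/
structure SData (G : Type u) (Ω : Type v) [Group G] [MulAction G Ω] (a b : Ω) (F : Subgroup G) (q : ℕ) : Prop where
  data : ZassOdd.Main.Data G Ω a b F
  four_le : 4 ≤ q
  pow_two : ∃ n : ℕ, q = 2 ^ n
  stab : Nat.card ↥(stabilizer G a ⊓ stabilizer G b) + 1 = q
  exp_four : ∀ x ∈ F, x ^ 4 = 1
  inv_central : ∀ x ∈ F, x * x = 1 → ∀ y ∈ F, x * y = y * x
  conj : ∀ x y : G, orderOf x = 2 → orderOf y = 2 → IsConj x y
  card_inv : Nat.card {x : G // x ∈ F ∧ orderOf x = 2} + 1 = q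
  suz : Cfsg.IsSuzukiTwoGroup F
  center : Nat.card (Subgroup.center F) = q
  card_F : Nat.card F = q ^ 2 ∨ Nat.card F = q ^ 3

theorem orderOf_two_iff {x : G} : orderOf x = 2 ↔ x ≠ 1 ∧ x * x = 1 := by
  constructor
  · intro h
    exact ⟨fun e => by rw [e, orderOf_one] at h; omega, by rw [← sq, ← h, pow_orderOf_eq_one]⟩
  · rintro ⟨h1, h2⟩
    exact orderOf_eq_prime (by rw [sq, h2]) h1

/-- The kernel is a Suzuki 2-group with centre of order one more than the two-point stabiliser. -/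
theorem exists_sdata [Finite G] [Fintype Ω] (hZ : Cfsg.IsZassenhausGroup G Ω) [IsSimpleGroup G] {a b : Ω}
    (hab : a ≠ b) {F : Subgroup G} (hF : ZKer a F) (h2 : IsPGroup 2 F) (hna : ∃ u v : F, u * v ≠ v * u) :
    ∃ q : ℕ, SData G Ω a b F q := by
  classical
  haveI : Fact (Nat.Prime 2) := ⟨Nat.prime_two⟩
  have Z := zgrp_of_zassenhaus hZ
  haveI : Nontrivial Ω := ⟨a, b, hab⟩
  set E := stabilizer G a ⊓ stabilizer G b with hE
  set e := Nat.card E with he
  have hn := hF.card_add_one hab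
  have he2 : 2 ≤ e := Z.stab_pos hab
  obtain ⟨k, hk⟩ := h2.exists_card_eq
  haveI : Nontrivial F := by
    obtain ⟨u, v, huv⟩ := hna
    exact ⟨⟨u * v, v * u, huv⟩⟩
  have hk0 : k ≠ 0 := fun h0 => by
    have := (Finite.one_lt_card : 1 < Nat.card F)
    rw [hk, h0, pow_zero] at this
    omega
  have hev : Even (Nat.card F) := by rw [hk]; exact (Nat.even_pow.mpr ⟨by norm_num, hk0⟩)
  have hdvd := ZassSharp.card_dvd Z hab
  rw [show Fintype.card Ω - 2 = Nat.card F - 1 by omega] at hdvd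
  have hodd : Odd e := by
    refine Odd.of_dvd_nat ?_ hdvd
    obtain ⟨m, hm⟩ := hev
    exact ⟨m - 1, by have := (Finite.one_lt_card : 1 < Nat.card F); omega⟩
  have S := ZassOdd.setup hZ hab rfl hodd
  have hinv : ∀ s : G, s • a = b → s • b = a → ∀ h ∈ E, s * h * s⁻¹ = h⁻¹ := fun s hs hs' h hh =>
    (ZassOdd.swap_inv S hab hs hs' hh).2.2
  have D : ZassOdd.Main.Data G Ω a b F := ⟨hF, Z, hZ, hab, hodd, hinv⟩
  have hconj : ∀ x y : G, orderOf x = 2 → orderOf y = 2 → IsConj x y := fun x y hx hy =>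
    ZassOdd.conj_involutions S x y hx hy
  -- a central involution
  haveI := h2.center_nontrivial
  obtain ⟨z, hz⟩ := exists_prime_orderOf_dvd_card' (G := Subgroup.center F) 2 (by
    obtain ⟨m, hm⟩ := IsPGroup.iff_card.mp (h2.to_subgroup (Subgroup.center F))
    have : m ≠ 0 := fun h0 => by
      have h1 := (Finite.one_lt_card : 1 < Nat.card (Subgroup.center F))
      rw [hm, h0, pow_zero] at h1
      omega
    rw [hm]; exact dvd_pow_self 2 this)
  set t : G := ((z : F) : G) with ht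
  have htF : t ∈ F := (z : F).2
  have ht2 : orderOf t = 2 := by rw [ht, Subgroup.orderOf_coe, Subgroup.orderOf_coe, hz]
  have htc : ∀ y ∈ F, t * y = y * t := fun y hy =>
    (congrArg Subtype.val (Subgroup.mem_center_iff.mp z.2 ⟨y, hy⟩)).symm
  let φ : E →* MulAut F :=
    { toFun := fun g =>
        { toFun := fun u => ⟨(g : G) * u * (g : G)⁻¹, hF.conj g (Subgroup.mem_inf.mp g.2).1 u u.2⟩
          invFun := fun u => ⟨((g⁻¹ : E) : G) * u * ((g⁻¹ : E) : G)⁻¹, hF.conj _ (Subgroup.mem_inf.mp (g⁻¹).2).1 u u.2⟩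
          left_inv := fun u => Subtype.ext (by
            show ((g⁻¹ : E) : G) * ((g : G) * u * (g : G)⁻¹) * ((g⁻¹ : E) : G)⁻¹ = u
            push_cast; group)
          right_inv := fun u => Subtype.ext (by
            show (g : G) * (((g⁻¹ : E) : G) * u * ((g⁻¹ : E) : G)⁻¹) * (g : G)⁻¹ = u
            push_cast; group)
          map_mul' := fun u v => Subtype.ext (by
            show (g : G) * ((u : G) * v) * (g : G)⁻¹ = g * u * (g : G)⁻¹ * (g * v * (g : G)⁻¹)
            group) }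
      map_one' := MulEquiv.ext fun u => Subtype.ext (by
        show ((1 : E) : G) * u * ((1 : E) : G)⁻¹ = u; simp)
      map_mul' := fun g g' => MulEquiv.ext fun u => Subtype.ext (by
        show ((g * g' : E) : G) * u * ((g * g' : E) : G)⁻¹ = g * ((g' : G) * u * (g' : G)⁻¹) * (g : G)⁻¹
        push_cast; group) }
  have hfpf : ∀ g g' : E, (g : G) * t * (g : G)⁻¹ = (g' : G) * t * (g' : G)⁻¹ → g = g' := by
    intro g g' h
    obtain ⟨h1, h3⟩ := Subgroup.mem_inf.mp (E.mul_mem (E.inv_mem g'.2) g.2)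
    refine Subtype.ext (inv_mul_eq_one.mp (hF.fpf Z hab h1 h3 htF (orderOf_two_iff.mp ht2).1 ?_)).symm
    calc (g' : G)⁻¹ * g * t * ((g' : G)⁻¹ * g)⁻¹ = (g' : G)⁻¹ * ((g : G) * t * (g : G)⁻¹) * g' := by group
      _ = t := by rw [h]; group
  have horb : ∀ x ∈ F, orderOf x = 2 → ∃ g : E, (g : G) * t * (g : G)⁻¹ = x := by
    intro x hxF hx
    obtain ⟨g, hg⟩ := isConj_iff.mp (hconj t x ht2 hx)
    have hga : g • a = a := ZassOdd.Main.fix_only D hxF (orderOf_two_iff.mp hx).1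
      (by rw [← hg, mul_smul, mul_smul, inv_smul_smul, hF.fix t htF])
    obtain ⟨u, hu, hub⟩ := hF.exists_eq b (g • b) hab.symm
      (fun e1 => hab.symm (MulAction.injective g (e1.trans hga.symm)))
    have hkE : u⁻¹ * g ∈ E := Subgroup.mem_inf.mpr
      ⟨by rw [mem_stabilizer_iff, mul_smul, hga, inv_smul_eq_iff, hF.fix u hu],
        by rw [mem_stabilizer_iff, mul_smul, inv_smul_eq_iff, hub]⟩
    refine ⟨⟨u⁻¹ * g, hkE⟩, ?_⟩
    have h1 := htc _ (hF.conj (u⁻¹ * g)⁻¹ (inv_smul_eq_iff.mpr (Subgroup.mem_inf.mp hkE).1.symm) u hu)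
    have h1' : t * ((u⁻¹ * g)⁻¹ * u * (u⁻¹ * g)⁻¹⁻¹) = (u⁻¹ * g)⁻¹ * u * (u⁻¹ * g)⁻¹⁻¹ * t := h1
    show u⁻¹ * g * t * (u⁻¹ * g)⁻¹ = x
    rw [← hg]
    calc u⁻¹ * g * t * (u⁻¹ * g)⁻¹
        = u⁻¹ * g * (t * ((u⁻¹ * g)⁻¹ * u * (u⁻¹ * g)⁻¹⁻¹)) * ((u⁻¹ * g)⁻¹ * u * (u⁻¹ * g)⁻¹⁻¹)⁻¹ * (u⁻¹ * g)⁻¹ := by
          group
      _ = g * t * g⁻¹ := by rw [h1']; group
  have hcard_inv : Nat.card {x : G // x ∈ F ∧ orderOf x = 2} = e := by
    refine (Nat.card_eq_of_bijective (fun g : E => (⟨(g : G) * t * (g : G)⁻¹,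
      hF.conj _ (Subgroup.mem_inf.mp g.2).1 t htF, by
        rw [← ht2]; exact orderOf_injective (MulAut.conj (g : G)).toMonoidHom (MulAut.conj (g : G)).injective t⟩ :
      {x : G // x ∈ F ∧ orderOf x = 2})) ⟨fun g g' h => hfpf g g' (congrArg Subtype.val h), ?_⟩).symm
    rintro ⟨x, hxF, hx⟩
    obtain ⟨g, hg⟩ := horb x hxF hx
    exact ⟨g, Subtype.ext hg⟩
  have hinvc : ∀ x ∈ F, x * x = 1 → ∀ y ∈ F, x * y = y * x := by
    intro x hxF hx y hy
    by_cases hx1 : x = 1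
    · rw [hx1, one_mul, mul_one]
    obtain ⟨g, hg⟩ := horb x hxF (orderOf_two_iff.mpr ⟨hx1, hx⟩)
    have hy' := hF.conj (g : G)⁻¹ (inv_smul_eq_iff.mpr (Subgroup.mem_inf.mp g.2).1.symm) y hy
    have h1 := htc _ hy'
    rw [← hg]
    calc (g : G) * t * (g : G)⁻¹ * y = g * (t * ((g : G)⁻¹ * y * (g : G)⁻¹⁻¹)) * (g : G)⁻¹ := by group
      _ = y * ((g : G) * t * (g : G)⁻¹) := by rw [h1]; group
  have hsuz : Cfsg.IsSuzukiTwoGroup F := by
    haveI : IsCyclic E := (S0345.result hZ hab).1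
    refine ⟨inferInstance, h2, hna, ?_, φ.range,
      isCyclic_of_surjective φ.rangeRestrict φ.rangeRestrict_surjective, ?_⟩
    · obtain ⟨g, hg⟩ : ∃ g : E, g ≠ 1 := by
        by_contra! hall
        haveI : Subsingleton E := ⟨fun x y => (hall x).trans (hall y).symm⟩
        have := Nat.card_of_subsingleton (1 : E)
        omega
      obtain ⟨ht1, htt⟩ := orderOf_two_iff.mp ht2
      refine ⟨⟨t, htF⟩, φ g ⟨t, htF⟩, fun e1 => hg (hfpf g 1 ?_), fun e1 => ht1 (congrArg Subtype.val e1),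
        Subtype.ext htt, fun e1 => ht1 (congrArg Subtype.val (show (⟨t, htF⟩ : F) = 1 from
          (φ g).map_eq_one_iff.mp e1)), by rw [← map_mul, show (⟨t, htF⟩ : F) * ⟨t, htF⟩ = 1 from Subtype.ext htt, map_one]⟩
      have e2 : t = (g : G) * t * (g : G)⁻¹ := congrArg Subtype.val e1
      rw [← e2]; simp
    · intro x y hx1 hxx hy1 hyy
      obtain ⟨g, hg⟩ := horb x x.2 (orderOf_two_iff.mpr ⟨fun e1 => hx1 (Subtype.ext e1), congrArg Subtype.val hxx⟩)
      obtain ⟨g', hg'⟩ := horb y y.2 (orderOf_two_iff.mpr ⟨fun e1 => hy1 (Subtype.ext e1), congrArg Subtype.val hyy⟩)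
      refine ⟨⟨φ (g' * g⁻¹), g' * g⁻¹, rfl⟩, Subtype.ext ?_, ?_⟩
      · show ((g' * g⁻¹ : E) : G) * x * ((g' * g⁻¹ : E) : G)⁻¹ = y
        rw [← hg, ← hg']
        push_cast; group
      · rintro ⟨_, g'', rfl⟩ h''
        refine Subtype.ext (congrArg φ ?_)
        have h3 : (g'' : G) * x * (g'' : G)⁻¹ = y := congrArg Subtype.val h''
        have h4 := hfpf (g'' * g) g' (by
          rw [hg', ← h3, ← hg]
          push_cast; group)
        rw [← h4, mul_inv_cancel_right]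
  obtain ⟨hcen, -⟩ := S1137.result hsuz
  obtain ⟨-, -, hord, hexp⟩ := S1138.result hsuz
  have hcenter : Nat.card (Subgroup.center F) = e + 1 := by
    haveI := Fintype.ofFinite (Subgroup.center F)
    rw [← hcard_inv]
    have h1 : Nat.card {x : G // x ∈ F ∧ orderOf x = 2} = Nat.card {x : Subgroup.center F // x ≠ 1} := by
      refine Nat.card_congr
        { toFun := fun x => ⟨⟨⟨x.1, x.2.1⟩, ((hcen _).mp ⟨fun e1 => (orderOf_two_iff.mp x.2.2).1 (congrArg Subtype.val e1),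
              Subtype.ext (orderOf_two_iff.mp x.2.2).2⟩).1⟩,
            fun e1 => (orderOf_two_iff.mp x.2.2).1 (congrArg (fun w : Subgroup.center F => ((w : F) : G)) e1)⟩
          invFun := fun x => ⟨((x.1 : F) : G), (x.1 : F).2, by
            have hne : (x.1 : F) ≠ 1 := fun e1 => x.2 (Subtype.ext e1)
            obtain ⟨-, h3⟩ := (hcen (x.1 : F)).mpr ⟨x.1.2, hne⟩
            exact orderOf_two_iff.mpr ⟨fun e1 => hne (Subtype.ext e1), congrArg Subtype.val h3⟩⟩
          left_inv := fun x => rfl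
          right_inv := fun x => rfl }
    rw [h1, Nat.card_eq_fintype_card, Nat.card_eq_fintype_card, Fintype.card_subtype_compl,
      Fintype.card_subtype_eq]
    have : 0 < Fintype.card (Subgroup.center F) := Fintype.card_pos
    omega
  rw [hcenter] at hord
  obtain ⟨n, hn2⟩ := IsPGroup.iff_card.mp (h2.to_subgroup (Subgroup.center F))
  refine ⟨e + 1, D, ?_, ⟨n, hcenter ▸ hn2⟩, rfl, fun x hx => ?_, hinvc, hconj, by rw [hcard_inv], hsuz, hcenter, hord⟩
  · obtain ⟨m, hm⟩ := hodd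
    omega
  · have := Monoid.pow_exponent_eq_one (⟨x, hx⟩ : F)
    rw [hexp] at this
    exact congrArg Subtype.val this

end Cfsg.Agent.ZassSuz
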