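import Cfsg.Agent.Lib.ZassSuz.Setup
import Cfsg.Agent.S1139

/-!
# Subgroups of a Suzuki 2-group with a single involution
-/

set_option autoImplicit false
set_option linter.all false

namespace Cfsg.Agent.ZassSuz

open Matrix

universe u

variable {P : Type u} [Group P]

/-- No element of order four is conjugate to its inverse. -/
def NoReal (P : Type u) [Group P] : Prop := ∀ x y : P, y⁻¹ * x * y = x⁻¹ → x * x = 1

theorem small_sub (hP : Cfsg.IsSuzukiTwoGroup P) (L : Subgroup P) {t : P} (htL : t ∈ L) (ht : t * t = 1)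
    (huniq : ∀ y ∈ L, y ≠ 1 → y * y = 1 → y = t) :
    Nat.card L ≤ 8 ∧ (NoReal P → Nat.card L ≤ 4) := by
  classical
  haveI := hP.1
  obtain ⟨hcen, hcsq⟩ := S1137.result hP
  obtain ⟨hsq, hcom, -, -⟩ := S1138.result hP
  haveI := Fintype.ofFinite P
  set Lf := Finset.univ.filter fun x : P => x ∈ L with hLf
  have hcard : Nat.card L = Lf.card := by
    rw [Nat.card_eq_fintype_card, Fintype.card_of_subtype Lf (fun x => by simp [hLf])]
  have hsq' : ∀ x ∈ L, x * x = 1 ∨ x * x = t := by
    intro x hx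
    by_cases h : x * x = 1
    · exact Or.inl h
    · exact Or.inr (huniq _ (L.mul_mem hx hx) h (hcsq _ (hsq x)))
  have ht1 : ∀ x ∈ L, x * x = 1 → x = 1 ∨ x = t := fun x hx h => by
    by_cases h1 : x = 1
    · exact Or.inl h1
    · exact Or.inr (huniq x hx h1 h)
  have htc : ∀ y : P, y * t = t * y := by
    intro y
    by_cases h : t = 1
    · rw [h, one_mul, mul_one]
    · exact Subgroup.mem_center_iff.mp ((hcen t).mp ⟨h, ht⟩).1 y
  by_cases hall : ∀ x ∈ L, x * x = 1
  · have hsub : Lf ⊆ {1, t} := fun x hx => by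
      have hx' := (Finset.mem_filter.mp hx).2
      simp only [Finset.mem_insert, Finset.mem_singleton]
      exact ht1 x hx' (hall x hx')
    have h2 : Nat.card L ≤ 2 := hcard ▸ (Finset.card_le_card hsub).trans Finset.card_le_two
    exact ⟨by omega, fun _ => by omega⟩
  push Not at hall
  obtain ⟨u, huL, hu⟩ := hall
  have huu : u * u = t := (hsq' u huL).resolve_left hu
  set C := Lf.filter fun w => u * w = w * u with hC
  have hCsub : C ⊆ {1, t, u, u * t} := by
    intro w hw
    obtain ⟨hwL, hwc⟩ := Finset.mem_filter.mp hw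
    have hwL' := (Finset.mem_filter.mp hwL).2
    simp only [Finset.mem_insert, Finset.mem_singleton]
    rcases hsq' w hwL' with hw2 | hw2
    · rcases ht1 w hwL' hw2 with h | h
      · exact Or.inl h
      · exact Or.inr (Or.inl h)
    · have hprod : u * w * (u * w) = 1 := by
        calc u * w * (u * w) = u * (w * u) * w := by group
          _ = u * u * (w * w) := by rw [← hwc]; group
          _ = 1 := by rw [huu, hw2, ht]
      rcases ht1 _ (L.mul_mem huL hwL') hprod with h | h
      · refine Or.inr (Or.inr (Or.inr ?_))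
        calc w = u⁻¹ * (u * w) := by group
          _ = u * (u⁻¹ * u⁻¹) := by rw [h]; group
          _ = u * t := by rw [← _root_.mul_inv_rev, huu, inv_eq_of_mul_eq_one_right ht]
      · refine Or.inr (Or.inr (Or.inl ?_))
        calc w = u⁻¹ * (u * w) := by group
          _ = u⁻¹ * t := by rw [h]
          _ = u := by rw [← huu]; group
  have hC4 : C.card ≤ 4 := (Finset.card_le_card hCsub).trans Finset.card_le_four
  have hout : ∀ v ∈ L, u * v ≠ v * u → u⁻¹ * v⁻¹ * u * v = t := by
    intro v hv hne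
    have h1 : u⁻¹ * v⁻¹ * u * v ≠ 1 := fun e => hne (by
      calc u * v = v * u * (u⁻¹ * v⁻¹ * u * v) := by group
        _ = v * u := by rw [e, mul_one])
    exact huniq _ (L.mul_mem (L.mul_mem (L.mul_mem (L.inv_mem huL) (L.inv_mem hv)) huL) hv) h1 (hcsq _ (hcom u v))
  refine ⟨?_, fun hnr => ?_⟩
  · rw [hcard, ← Finset.card_filter_add_card_filter_not (s := Lf) (fun w => u * w = w * u), ← hC]
    suffices (Lf.filter fun w => ¬ u * w = w * u).card ≤ 4 by omega
    by_cases h0 : (Lf.filter fun w => ¬ u * w = w * u) = ∅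
    · rw [h0]; simp
    obtain ⟨v, hv⟩ := Finset.nonempty_iff_ne_empty.mpr h0
    obtain ⟨hvL, hvn⟩ := Finset.mem_filter.mp hv
    refine le_trans (Finset.card_le_card_of_injOn (fun w => v * w) (fun w hw => ?_)
      (fun x _ y _ h => mul_left_cancel h)) hC4
    obtain ⟨hwL, hwn⟩ := Finset.mem_filter.mp hw
    have hvL' := (Finset.mem_filter.mp hvL).2
    have hwL' := (Finset.mem_filter.mp hwL).2
    refine Finset.mem_filter.mpr ⟨Finset.mem_filter.mpr ⟨Finset.mem_univ _, L.mul_mem hvL' hwL'⟩, ?_⟩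
    have e1 : u * v = v * (u * t) := by
      rw [← hout v hvL' hvn]; group
    have e2 : u * w = w * (u * t) := by
      rw [← hout w hwL' hwn]; group
    calc u * (v * w) = v * u * t * w := by rw [← mul_assoc, e1]; group
      _ = v * (u * w) * t := by
          rw [mul_assoc (v * u), ← htc w]; group
      _ = v * w * u * (t * t) := by rw [e2]; group
      _ = v * w * u := by rw [ht, mul_one]
  · rw [hcard]
    refine le_trans (Finset.card_le_card (fun w hw => Finset.mem_filter.mpr ⟨hw, by_contra fun hne => ?_⟩)) hC4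
    have hwL := (Finset.mem_filter.mp hw).2
    refine hu (hnr u w ?_)
    calc w⁻¹ * u * w = u * (u⁻¹ * w⁻¹ * u * w) := by group
      _ = u * t := by rw [hout w hwL hne]
      _ = u⁻¹ := by
          rw [eq_inv_iff_mul_eq_one, mul_assoc, ← htc u, ← mul_assoc, huu, ht]

/-- Suzuki 2-groups of order `|Z|²` have no real elements of order four. -/
theorem noReal_of_square (hP : Cfsg.IsSuzukiTwoGroup P)
    (hcard : Nat.card P = Nat.card (Subgroup.center P) ^ 2) : NoReal P := by
  obtain ⟨K, iK, iKf, φ, hKc, -, hodd, ⟨e⟩⟩ := S1139.result hP hcard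
  have hchar : (2 : K) = 0 := by
    haveI := hP.1
    haveI : Fact (Nat.Prime 2) := ⟨Nat.prime_two⟩
    obtain ⟨n, hn⟩ := IsPGroup.iff_card.mp (hP.2.1.to_subgroup (Subgroup.center P))
    obtain ⟨m, hp, hKp⟩ := FiniteField.card K (ringChar K)
    have h1 : ringChar K = 2 := by
      refine (Nat.prime_dvd_prime_iff_eq hp Nat.prime_two).mp (hp.dvd_of_dvd_pow (n := n) ?_)
      rw [← hn, ← hKc, hKp]
      exact dvd_pow_self _ m.pos.ne'
    have := ringChar.Nat.cast_ringChar (R := K)
    rw [h1] at this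
    exact_mod_cast this
  have hneg : ∀ x : K, -x = x := fun x => by
    rw [neg_eq_iff_add_eq_zero, ← two_mul, hchar, zero_mul]
  intro x y h
  obtain ⟨g, hg⟩ : ∃ g, g = e x := ⟨_, rfl⟩
  obtain ⟨k, hk⟩ : ∃ k, k = e y := ⟨_, rfl⟩
  have h' : g * k = k * g⁻¹ := by
    rw [hg, hk, ← map_inv, ← map_mul, ← map_mul, ← h]
    congr 1
    group
  suffices g * g = 1 from e.injective (by rw [map_mul, map_one, ← hg]; exact this)
  have hform : ∀ g : GL (Fin 3) K, g ∈ Cfsg.suzukiTypeA K (φ : K →+* K) →
      ∃ x y : K, (g : Matrix (Fin 3) (Fin 3) K) = !![1, 0, 0; x, 1, 0; y, φ x, 1] := by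
    intro g hg
    refine Subgroup.closure_induction (fun g hg => hg) ⟨0, 0, ?_⟩ ?_ ?_ hg
    · ext i j; fin_cases i <;> fin_cases j <;> simp
    · rintro g g' - - ⟨x, y, hx⟩ ⟨x', y', hx'⟩
      refine ⟨x + x', y + φ x * x' + y', ?_⟩
      rw [Units.val_mul, hx, hx']
      ext i j
      fin_cases i <;> fin_cases j <;> simp [Matrix.mul_apply, Fin.sum_univ_three] <;> ring
    · rintro g - ⟨x, y, hx⟩
      refine ⟨x, y + φ x * x, ?_⟩
      refine Units.inv_eq_of_mul_eq_one_right ?_
      rw [hx]
      have two : ∀ z : K, z + z = 0 := fun z => by rw [← two_mul, hchar, zero_mul]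
      ext i j
      fin_cases i <;> fin_cases j <;> simp [Matrix.mul_apply, Fin.sum_univ_three, two]
  obtain ⟨x₀, y₀, hgm⟩ := hform _ g.2
  obtain ⟨x₁, y₁, hkm⟩ := hform _ k.2
  have two : ∀ z : K, z + z = 0 := fun z => by rw [← two_mul, hchar, zero_mul]
  have hx0 : x₀ = 0 := by
    by_contra hne
    have e1 : ((g * k * g : Cfsg.suzukiTypeA K (φ : K →+* K)) : GL (Fin 3) K) = (k : GL (Fin 3) K) := by
      rw [h', inv_mul_cancel_right]
    have e2 := congrArg (fun u : GL (Fin 3) K => (u : Matrix (Fin 3) (Fin 3) K) 2 0) e1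
    simp only [Subgroup.coe_mul, Units.val_mul, hgm, hkm] at e2
    simp [Matrix.mul_apply, Fin.sum_univ_three] at e2
    set r := x₁ / x₀ with hr
    have hx1 : x₁ = r * x₀ := by rw [hr, div_mul_cancel₀ _ hne]
    rw [hx1, map_mul] at e2
    have hφ0 : φ x₀ * x₀ ≠ 0 := mul_ne_zero (fun e => hne (φ.map_eq_zero_iff.mp e)) hne
    have e3 : φ x₀ * x₀ * (φ r + r + 1) = 0 := by
      linear_combination e2 - two y₀
    have hφr : φ r = r + 1 := by
      have := (mul_eq_zero.mp e3).resolve_left hφ0
      linear_combination this - two r - two 1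
    have hφ1 : φ (r + 1) = r := by
      rw [map_add, map_one, hφr]
      linear_combination two (1 : K)
    obtain ⟨m, hm⟩ := hodd
    have hp := pow_orderOf_eq_one φ
    rw [hm, pow_succ, pow_mul] at hp
    have h2 : (φ ^ 2) r = r := by
      show φ (φ r) = r
      rw [hφr, hφ1]
    have hpow : ∀ j : ℕ, ((φ ^ 2) ^ j) r = r := by
      intro j
      induction j with
      | zero => rfl
      | succ j ih =>
        rw [pow_succ]
        show ((φ ^ 2) ^ j) ((φ ^ 2) r) = r
        rw [h2, ih]
    have h3 := DFunLike.congr_fun hp r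
    change ((φ ^ 2) ^ m) (φ r) = r at h3
    rw [hφr, map_add, map_one, hpow] at h3
    simp at h3
  refine Subtype.ext (Units.ext ?_)
  show (g : GL (Fin 3) K).val * (g : GL (Fin 3) K).val = 1
  rw [hgm, hx0]
  ext i j
  fin_cases i <;> fin_cases j <;> simp [Matrix.mul_apply, Fin.sum_univ_three, two]

end Cfsg.Agent.ZassSuz
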