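import Cfsg.Agent.Lib.ZassSuz.Family
import Cfsg.Agent.Lib.ZassSuz.Small
import Cfsg.Agent.Lib.ZassSuz.Arith

/-!
# The kernel of order `q²`: the group has Suzuki order
-/

set_option autoImplicit false
set_option linter.all false

namespace Cfsg.Agent.ZassSuz

open MulAction

universe u v

variable {G : Type u} {Ω : Type v} [Group G] [MulAction G Ω]
variable [Fintype G] [Fintype Ω] {a b : Ω} {F : Subgroup G} {q : ℕ} (S : SData G Ω a b F q)
include S

/-- The data of one torus, read inside the kernel. -/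
theorem torus_small {A : Subgroup G} (hA : ∃ z, RealF Ω z ∧ A = cz z) :
    ∃ l : ℕ, lidx A = l ∧ 2 ≤ l ∧ l ∣ Nat.card A - 1 ∧ l ∣ Nat.card F ∧ l ≤ 8 ∧ (NoReal F → l ≤ 4) ∧
      2 ≤ Nat.card A ∧ Nat.card A ∣ Nat.card F + 1 := by
  obtain ⟨z, hz, rfl⟩ := hA
  obtain ⟨L, t, hLF, htL, ht, huniq, hidx, hdiv⟩ := norm_complement S hz
  obtain ⟨h8, h4⟩ := small_sub S.suz (L.subgroupOf F) (t := ⟨t, hLF htL⟩) htL
    (Subtype.ext (orderOf_two_iff.mp ht).2) (fun y hy hy1 hyy => Subtype.ext (huniq _ hy (orderOf_two_iff.mpr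
      ⟨fun e => hy1 (Subtype.ext e), congrArg Subtype.val hyy⟩)))
  have hc : Nat.card (L.subgroupOf F) = Nat.card L := Nat.card_congr (Subgroup.subgroupOfEquivOfLe hLF).toEquiv
  refine ⟨Nat.card L, hidx, ?_, hdiv, Subgroup.card_dvd_of_le hLF, hc ▸ h8, fun h => hc ▸ h4 h,
    two_le_card S hz, dvd_succ S hz.1⟩
  have h2 : orderOf (⟨t, htL⟩ : L) ∣ Nat.card L := orderOf_dvd_natCard _
  rw [Subgroup.orderOf_mk, ht] at h2
  exact Nat.le_of_dvd Nat.card_pos h2

/-- With kernel of order `q²` the group has Suzuki order. -/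
theorem suzuki_order (hcard : Nat.card F = q ^ 2) :
    ∃ m : ℕ, 1 ≤ m ∧
      Nat.card G = (2 ^ (2 * m + 1)) ^ 2 * ((2 ^ (2 * m + 1)) ^ 2 + 1) * (2 ^ (2 * m + 1) - 1) := by
  classical
  obtain ⟨n, hn⟩ := S.pow_two
  obtain ⟨s, htor, hcop, hsum, hT, -⟩ := exists_family S
  have hnr : NoReal F := noReal_of_square S.suz (by rw [S.center, hcard])
  choose! l hl hl2 hldiv hlF hl8 hl4 ha hdvd using fun A hA => torus_small S (htor A hA)
  have hl' : ∀ A ∈ s, l A = 2 ∨ l A = 4 := by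
    intro A hA
    have h := hlF A hA
    rw [hcard, hn, ← pow_mul] at h
    obtain ⟨j, -, hj⟩ := (Nat.dvd_prime_pow Nat.prime_two).mp h
    have h2 := hl2 A hA
    have h4 := hl4 A hA hnr
    rw [hj] at h2 h4 ⊢
    have hjle : j ≤ 2 := by
      by_contra hlt
      have := Nat.pow_le_pow_right (show 1 ≤ 2 by norm_num) (show 3 ≤ j by omega)
      omega
    interval_cases j <;> simp_all
  have hq4 := S.four_le
  have hodd : Odd n := by
    refine square_case s (fun A => Nat.card A) l q n hn hq4 ha (fun A hA => hcard ▸ hdvd A hA) hcop hl' ?_ ?_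
    · rw [← hsum]
      exact Finset.sum_congr rfl fun A hA => by rw [hl A hA]
    · rw [Finset.sum_congr rfl (g := fun A : Subgroup G => ((Nat.card A : ℚ) - 1) / (Nat.card A * lidx A))
        fun A hA => by rw [hl A hA]]
      have hq : (4 : ℚ) ≤ q := by exact_mod_cast hq4
      rw [hcard] at hT
      push_cast at hT
      by_contra hlt
      push Not at hlt
      nlinarith [mul_le_mul_of_nonneg_right hlt (show (0 : ℚ) ≤ ((q : ℚ) ^ 2 + 1) * ((q : ℚ) - 1) by nlinarith)]
  obtain ⟨m, rfl⟩ := hodd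
  refine ⟨m, ?_, ?_⟩
  · by_contra hm
    obtain rfl : m = 0 := by omega
    simp at hn
    omega
  · rw [card_G S, hcard, hn]
    ring

end Cfsg.Agent.ZassSuz
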