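import Cfsg.Agent.Lib.ZassSuz.Points
import Mathlib.GroupTheory.FixedPointFree

/-!
# Centralisers of real elements without fixed points
-/

set_option autoImplicit false
set_option linter.all false

namespace Cfsg.Agent.ZassSuz

open MulAction Cfsg.Agent.PermGp.ZEven

universe u v

/-- A semiregular action has group order dividing the number of points. -/
theorem card_dvd_free {E : Type u} [Group E] [Finite E] {X : Type v} [Finite X] [MulAction E X]
    (hfree : ∀ (g : E) (x : X), g • x = x → g = 1) : Nat.card E ∣ Nat.card X := by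
  classical
  haveI := Fintype.ofFinite (orbitRel.Quotient E X)
  rw [Nat.card_congr (MulAction.selfEquivSigmaOrbitsQuotientStabilizer E X), Nat.card_sigma]
  refine Finset.dvd_sum fun q _ => dvd_of_eq ?_
  have hst : Nat.card (stabilizer E q.out) = 1 :=
    Subgroup.card_eq_one.mpr ((Subgroup.eq_bot_iff_forall _).mpr fun g hg => hfree g _ hg)
  have h := (stabilizer E q.out).index_mul_card
  rw [hst, mul_one] at h
  exact h.symm

variable {G : Type u} {Ω : Type v} [Group G] [MulAction G Ω]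

/-- An element without fixed points that some involution inverts. -/
def RealF (Ω : Type v) [MulAction G Ω] (z : G) : Prop :=
  (∀ c : Ω, z • c ≠ c) ∧ ∃ x : G, orderOf x = 2 ∧ x * z * x⁻¹ = z⁻¹

/-- The centraliser. -/
abbrev cz (z : G) : Subgroup G := Subgroup.centralizer ({z} : Set G)

theorem mem_cz {z w : G} : w ∈ cz z ↔ w * z = z * w := Subgroup.mem_centralizer_singleton_iff

theorem self_mem_cz (z : G) : z ∈ cz z := mem_cz.mpr rfl

variable [Fintype G] [Fintype Ω] {a b : Ω} {F : Subgroup G} {q : ℕ} (S : SData G Ω a b F q)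
include S

theorem even_F : Even (Nat.card F) := by
  obtain ⟨n, hn⟩ := S.pow_two
  have h4 := S.four_le
  have hn0 : n ≠ 0 := by rintro rfl; simp at hn; omega
  rcases S.card_F with h | h <;> rw [h, hn, ← pow_mul] <;>
    exact Nat.even_pow.mpr ⟨by norm_num, by omega⟩

theorem exp_four_of_commute {x y : G} (hx : orderOf x = 2) (hy : y * x = x * y) : y ^ 4 = 1 := by
  obtain ⟨g, -, hg⟩ := invol_cent S hx
  have h := S.exp_four _ (hg y hy)
  calc y ^ 4 = g * (g⁻¹ * y * g) ^ 4 * g⁻¹ := by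
        simp only [pow_succ, pow_zero, one_mul]; group
    _ = 1 := by rw [h]; group

theorem semireg {z : G} (hz : ∀ c : Ω, z • c ≠ c) {w : G} (hw : w ∈ cz z) {p : Ω} (hp : w • p = p) : w = 1 := by
  have hcomm := mem_cz.mp hw
  have hd : w • (z • p) = z • p := by rw [← mul_smul, hcomm, mul_smul, hp]
  by_cases hback : z • (z • p) = p
  · have h := inv_frame S (Ne.symm (hz p)) (s := z) (k := w) rfl hback hp hd
    rw [← hcomm, mul_inv_cancel_right] at h
    exact sq_fix S (by nth_rewrite 2 [h]; exact mul_inv_cancel w) (Ne.symm (hz p)) hp hd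
  · exact S.data.grp.three w p (z • p) (z • (z • p)) (Ne.symm (hz p)) (Ne.symm (hz (z • p))) (Ne.symm hback) hp hd
      (by rw [← mul_smul, hcomm, mul_smul, hd])

theorem dvd_succ {z : G} (hz : ∀ c : Ω, z • c ≠ c) : Nat.card (cz z) ∣ Nat.card F + 1 := by
  rw [← card_Ω S, ← Nat.card_eq_fintype_card]
  exact card_dvd_free fun g c hg => Subtype.ext (semireg S hz g.2 hg)

theorem odd_cz {z : G} (hz : ∀ c : Ω, z • c ≠ c) : Odd (Nat.card (cz z)) :=
  Odd.of_dvd_nat (even_F S).add_one (dvd_succ S hz)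

/-- An involution normalising a subgroup of odd order inverts it. -/
theorem inverts {A : Subgroup G} (hA : Odd (Nat.card A)) {y : G} (hy : orderOf y = 2)
    (hn : ∀ w ∈ A, y * w * y⁻¹ ∈ A) : ∀ w ∈ A, y * w * y⁻¹ = w⁻¹ := by
  obtain ⟨-, hyy⟩ := orderOf_two_iff.mp hy
  let φ : A → A := fun w => ⟨y * w * y⁻¹, hn w w.2⟩
  let φh : A →* A := MonoidHom.mk' φ fun u v => Subtype.ext (by
    show y * ((u : G) * v) * y⁻¹ = y * u * y⁻¹ * (y * v * y⁻¹)
    group)
  have hinv : Function.Involutive φh := fun w => Subtype.ext (by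
    show y * (y * (w : G) * y⁻¹) * y⁻¹ = w
    calc y * (y * (w : G) * y⁻¹) * y⁻¹ = (y * y) * w * (y * y)⁻¹ := by group
      _ = w := by rw [hyy]; group)
  have hfix : MonoidHom.FixedPointFree φh := fun w hw => by
    have h1 : y * (w : G) * y⁻¹ = w := congrArg Subtype.val hw
    have h4 := exp_four_of_commute S hy (y := (w : G)) (mul_inv_eq_iff_eq_mul.mp h1).symm
    have h5 : orderOf w ∣ 4 := by
      rw [← Subgroup.orderOf_coe]
      exact orderOf_dvd_of_pow_eq_one h4
    refine orderOf_eq_one_iff.mp (Nat.eq_one_of_dvd_coprimes ?_ h5 (orderOf_dvd_natCard w))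
    exact Nat.Coprime.pow_left 2 (Nat.prime_two.coprime_iff_not_dvd.mpr fun h =>
      (Nat.not_even_iff_odd.mpr hA) (even_iff_two_dvd.mpr h))
  intro w hw
  exact congrArg Subtype.val (congrFun (hfix.coe_eq_inv_of_involutive hinv) ⟨w, hw⟩)

theorem inverter_all {z : G} (hz : RealF Ω z) {x : G} (hx : orderOf x = 2) (hxz : x * z * x⁻¹ = z⁻¹) :
    ∀ w ∈ cz z, x * w * x⁻¹ = w⁻¹ := by
  refine inverts S (odd_cz S hz.1) hx fun w hw => ?_
  rw [mem_cz] at hw ⊢
  have h2 : x * z⁻¹ * x⁻¹ = z := by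
    rw [show x * z⁻¹ * x⁻¹ = (x * z * x⁻¹)⁻¹ by group, hxz, inv_inv]
  calc x * w * x⁻¹ * z = x * w * x⁻¹ * (x * z⁻¹ * x⁻¹) := by rw [h2]
    _ = x * (w * z⁻¹) * x⁻¹ := by group
    _ = x * (z⁻¹ * (z * w) * z⁻¹) * x⁻¹ := by group
    _ = x * (z⁻¹ * (w * z) * z⁻¹) * x⁻¹ := by rw [hw]
    _ = x * z⁻¹ * x⁻¹ * (x * w * x⁻¹) := by group
    _ = z * (x * w * x⁻¹) := by rw [h2]

theorem cz_comm {z : G} (hz : RealF Ω z) : ∀ u ∈ cz z, ∀ w ∈ cz z, u * w = w * u := by
  intro u hu w hw
  obtain ⟨x, hx, hxz⟩ := hz.2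
  have h := inverter_all S hz hx hxz _ (mul_mem hu hw)
  rw [show x * (u * w) * x⁻¹ = x * u * x⁻¹ * (x * w * x⁻¹) by group, inverter_all S hz hx hxz u hu,
    inverter_all S hz hx hxz w hw, mul_inv_rev] at h
  rw [← inv_inj, mul_inv_rev, mul_inv_rev]
  exact h.symm

theorem real_of_mem {z : G} (hz : RealF Ω z) {w : G} (hw : w ∈ cz z) (hw1 : w ≠ 1) : RealF Ω w :=
  ⟨fun c hc => hw1 (semireg S hz.1 hw hc), by
    obtain ⟨x, hx, hxz⟩ := hz.2
    exact ⟨x, hx, inverter_all S hz hx hxz w hw⟩⟩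

theorem cz_eq {z : G} (hz : RealF Ω z) {w : G} (hw : w ∈ cz z) (hw1 : w ≠ 1) : cz w = cz z := by
  refine le_antisymm (fun u hu => mem_cz.mpr ?_) (fun u hu => mem_cz.mpr (cz_comm S hz u hu w hw))
  exact cz_comm S (real_of_mem S hz hw hw1) u hu z (mem_cz.mpr (mem_cz.mp hw).symm)

theorem two_le_card {z : G} (hz : RealF Ω z) : 2 ≤ Nat.card (cz z) := by
  have hz1 : z ≠ 1 := fun e => hz.1 a (by rw [e, one_smul])
  haveI : Nontrivial (cz z) := ⟨⟨⟨z, self_mem_cz z⟩, 1, fun e => hz1 (congrArg Subtype.val e)⟩⟩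
  exact Finite.one_lt_card

open Classical in
theorem card_inverters {z : G} (hz : RealF Ω z) :
    (Finset.univ.filter fun x : G => orderOf x = 2 ∧ x * z * x⁻¹ = z⁻¹).card = Nat.card (cz z) := by
  obtain ⟨x, hx, hxz⟩ := hz.2
  rw [← Fintype.card_subtype, ← Nat.card_eq_fintype_card]
  refine Nat.card_congr
    { toFun := fun y => ⟨x⁻¹ * y.1, mem_cz.mpr ?_⟩
      invFun := fun w => ⟨x * (w : G), ?_, ?_⟩
      left_inv := fun y => Subtype.ext (mul_inv_cancel_left x _)
      right_inv := fun w => Subtype.ext (inv_mul_cancel_left x _) }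
  · calc x⁻¹ * y.1 * z = x⁻¹ * (y.1 * z * y.1⁻¹) * y.1 := by group
      _ = x⁻¹ * (x * z * x⁻¹) * y.1 := by rw [y.2.2, hxz]
      _ = z * (x⁻¹ * y.1) := by group
  · refine orderOf_two_iff.mpr ⟨fun e => ?_, ?_⟩
    · have hxw : x = (w : G)⁻¹ := eq_inv_of_mul_eq_one_left e
      have hxm : x ∈ cz z := hxw ▸ inv_mem w.2
      have := Odd.of_dvd_nat (odd_cz S hz.1) (Subgroup.orderOf_dvd_natCard _ hxm)
      rw [hx] at this
      exact (Nat.not_even_iff_odd.mpr this) even_two
    · have h := inverter_all S hz hx hxz (w : G) w.2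
      calc x * (w : G) * (x * (w : G)) = (x * (w : G) * x⁻¹) * (x * x) * w := by group
        _ = 1 := by rw [h, (orderOf_two_iff.mp hx).2]; group
  · have h1 := mem_cz.mp w.2
    calc x * (w : G) * z * (x * (w : G))⁻¹ = x * ((w : G) * z * (w : G)⁻¹) * x⁻¹ := by group
      _ = z⁻¹ := by rw [h1, mul_inv_cancel_right, hxz]

/-- The part of the normalizer of a torus fixed by an inverting involution. -/
theorem norm_complement {z : G} (hz : RealF Ω z) :
    ∃ (L : Subgroup G) (t : G), L ≤ F ∧ t ∈ L ∧ orderOf t = 2 ∧ (∀ y ∈ L, orderOf y = 2 → y = t) ∧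
      ((cz z).subgroupOf (Subgroup.normalizer (cz z : Set G))).index = Nat.card L ∧
      Nat.card L ∣ Nat.card (cz z) - 1 := by
  classical
  obtain ⟨x, hx, hxz⟩ := hz.2
  obtain ⟨hx1, hxx⟩ := orderOf_two_iff.mp hx
  have hinv := inverter_all S hz hx hxz
  have hodd := odd_cz S hz.1
  set A := cz z with hA
  set N := Subgroup.normalizer (A : Set G) with hN
  set K := N ⊓ Subgroup.centralizer ({x} : Set G) with hK
  have hAN : A ≤ N := Subgroup.le_normalizer
  have hxN : x ∈ N := by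
    rw [hN, Subgroup.mem_normalizer_iff]
    intro w
    refine ⟨fun hw => by rw [hinv w hw]; exact inv_mem hw, fun hw => ?_⟩
    have h := hinv _ hw
    rw [show x * (x * w * x⁻¹) * x⁻¹ = (x * x) * w * (x * x)⁻¹ by group, hxx] at h
    simp only [inv_one, mul_one, one_mul] at h
    rw [h]; exact inv_mem hw
  have hAK : ∀ w ∈ A, w * x = x * w → w = 1 := by
    intro w hw hc
    have h := hinv w hw
    rw [← hc, mul_inv_cancel_right] at h
    have h2 : orderOf (⟨w, hw⟩ : A) ∣ 2 := orderOf_dvd_of_pow_eq_one (Subtype.ext (by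
      show w ^ 2 = 1
      rw [sq]; nth_rewrite 2 [h]; exact mul_inv_cancel w))
    have := orderOf_eq_one_iff.mp (Nat.eq_one_of_dvd_coprimes (Nat.prime_two.coprime_iff_not_dvd.mpr fun h' =>
      (Nat.not_even_iff_odd.mpr hodd) (even_iff_two_dvd.mpr h')) h2 (orderOf_dvd_natCard _))
    exact congrArg Subtype.val this
  have hcardN : Nat.card N = Nat.card A * Nat.card K := by
    rw [← Nat.card_prod]
    refine (Nat.card_eq_of_bijective (fun p : A × K => (⟨(p.1 : G) * p.2, mul_mem (hAN p.1.2) p.2.2.1⟩ : N))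
      ⟨?_, ?_⟩).symm
    · rintro ⟨w, k⟩ ⟨w', k'⟩ e
      have e' : (w : G) * k = w' * k' := congrArg Subtype.val e
      have h1 : (w' : G)⁻¹ * w = k' * (k : G)⁻¹ := by
        calc (w' : G)⁻¹ * w = (w' : G)⁻¹ * ((w : G) * k) * (k : G)⁻¹ := by group
          _ = k' * (k : G)⁻¹ := by rw [e']; group
      have h2 := hAK _ (mul_mem (inv_mem w'.2) w.2) (by
        rw [h1]
        exact Subgroup.mem_centralizer_singleton_iff.mp (mul_mem k'.2.2 (inv_mem k.2.2)))
      obtain rfl : w = w' := Subtype.ext (inv_mul_eq_one.mp h2).symm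
      exact Prod.ext rfl (Subtype.ext (mul_left_cancel e'))
    · rintro ⟨g, hg⟩
      set x' := g * x * g⁻¹ with hx'
      have hg' := Subgroup.mem_normalizer_iff.mp (inv_mem hg)
      have hx'inv : x' * z * x'⁻¹ = z⁻¹ := by
        have hm : g⁻¹ * z * g ∈ A := by
          have := (hg' z).mp (self_mem_cz z)
          rwa [inv_inv] at this
        calc x' * z * x'⁻¹ = g * (x * (g⁻¹ * z * g) * x⁻¹) * g⁻¹ := by rw [hx']; group
          _ = z⁻¹ := by rw [hinv _ hm]; group
      set c := x⁻¹ * x' with hc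
      have hcA : c ∈ A := mem_cz.mpr (by
        calc c * z = x⁻¹ * (x' * z * x'⁻¹) * x' := by rw [hc]; group
          _ = x⁻¹ * (x * z * x⁻¹) * x' := by rw [hx'inv, hxz]
          _ = z * c := by rw [hc]; group)
      obtain ⟨m, hm⟩ := hodd
      set d := c ^ m with hd
      have hdA : d ∈ A := pow_mem hcA m
      have hdd : d * d = c⁻¹ := by
        have h1 : c ^ (2 * m + 1) = 1 := by
          rw [← hm]
          exact congrArg Subtype.val (pow_card_eq_one' (x := (⟨c, hcA⟩ : A)))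
        rw [hd, ← pow_add, eq_inv_iff_mul_eq_one, ← pow_succ, ← two_mul]
        exact h1
      have hxd : d * x * d⁻¹ = x' := by
        have h1 := hinv _ (inv_mem hdA)
        rw [inv_inv] at h1
        calc d * x * d⁻¹ = x * (x⁻¹ * d * x) * d⁻¹ := by group
          _ = x * (d * d)⁻¹ := by
              rw [show x⁻¹ * d * x = d⁻¹ by
                calc x⁻¹ * d * x = x⁻¹ * (x * d⁻¹ * x⁻¹) * x := by rw [h1]
                  _ = d⁻¹ := by group]
              group
          _ = x' := by rw [hdd, inv_inv, hc, mul_inv_cancel_left]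
      have hcen : d⁻¹ * g ∈ Subgroup.centralizer ({x} : Set G) := Subgroup.mem_centralizer_singleton_iff.mpr ?_
      refine ⟨(⟨d, hdA⟩, ⟨d⁻¹ * g, Subgroup.mem_inf.mpr ⟨N.mul_mem (N.inv_mem (hAN hdA)) hg, hcen⟩⟩),
        Subtype.ext (mul_inv_cancel_left d g)⟩
      calc d⁻¹ * g * x = d⁻¹ * (g * x * g⁻¹) * g := by group
        _ = x * (d⁻¹ * g) := by rw [← hx', ← hxd]; group
  obtain ⟨g₀, hg₀, hg₀c⟩ := invol_cent S hx
  let cj : G →* G := (MulAut.conj g₀⁻¹).toMonoidHom
  have hcj : ∀ y, cj y = g₀⁻¹ * y * g₀ := fun y => by simp [cj]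
  have hcjinj : Function.Injective cj := (MulAut.conj g₀⁻¹).injective
  refine ⟨K.map cj, cj x, ?_, Subgroup.mem_map_of_mem cj ⟨hxN, Subgroup.mem_centralizer_singleton_iff.mpr rfl⟩,
    by rw [orderOf_injective cj hcjinj, hx], ?_, ?_, ?_⟩
  · rintro _ ⟨k, hk, rfl⟩
    rw [hcj]
    exact hg₀c k (Subgroup.mem_centralizer_singleton_iff.mp hk.2)
  · rintro _ ⟨k, hk, rfl⟩ hy
    rw [orderOf_injective cj hcjinj] at hy
    congr 1
    have hkA : ∀ w ∈ A, k * w * k⁻¹ ∈ A := fun w hw => (Subgroup.mem_normalizer_iff.mp hk.1 w).mp hw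
    have hk' := inverts S hodd hy hkA z (self_mem_cz z)
    have hm : x⁻¹ * k ∈ A := mem_cz.mpr (by
      calc x⁻¹ * k * z = x⁻¹ * (k * z * k⁻¹) * k := by group
        _ = x⁻¹ * (x * z * x⁻¹) * k := by rw [hk', hxz]
        _ = z * (x⁻¹ * k) := by group)
    have h1 := hAK _ hm (Subgroup.mem_centralizer_singleton_iff.mp
      (mul_mem (inv_mem (show x ∈ Subgroup.centralizer ({x} : Set G) from Subgroup.mem_centralizer_singleton_iff.mpr rfl)) hk.2))
    exact (inv_mul_eq_one.mp h1).symm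
  · have h1 := (A.subgroupOf N).card_mul_index
    rw [Nat.card_congr (Subgroup.subgroupOfEquivOfLe hAN).toEquiv, hcardN] at h1
    rw [Nat.eq_of_mul_eq_mul_left Nat.card_pos h1, Subgroup.card_map_of_injective hcjinj]
  · rw [Subgroup.card_map_of_injective hcjinj]
    letI act : MulAction K {w : A // w ≠ 1} :=
      { smul := fun k w => ⟨⟨(k : G) * (w.1 : G) * (k : G)⁻¹, (Subgroup.mem_normalizer_iff.mp k.2.1 _).mp w.1.2⟩,
          fun e => w.2 (Subtype.ext (conj_eq_one_iff.mp (congrArg Subtype.val e)))⟩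
        one_smul := fun w => Subtype.ext (Subtype.ext (by
          show ((1 : K) : G) * (w.1 : G) * ((1 : K) : G)⁻¹ = w.1
          simp))
        mul_smul := fun k k' w => Subtype.ext (Subtype.ext (by
          show ((k * k' : K) : G) * (w.1 : G) * ((k * k' : K) : G)⁻¹ = k * ((k' : G) * w.1 * (k' : G)⁻¹) * (k : G)⁻¹
          push_cast; group)) }
    have h := card_dvd_free (E := K) (X := {w : A // w ≠ 1}) fun k w e => by
      have e' : (k : G) * (w.1 : G) * (k : G)⁻¹ = w.1 := congrArg (fun v : {w : A // w ≠ 1} => ((v.1 : A) : G)) e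
      have hkw : (k : G) ∈ cz (w.1 : G) := mem_cz.mpr (mul_inv_eq_iff_eq_mul.mp e')
      rw [cz_eq S hz w.1.2 (fun e1 => w.2 (Subtype.ext e1))] at hkw
      exact Subtype.ext (hAK _ hkw (Subgroup.mem_centralizer_singleton_iff.mp k.2.2))
    rwa [Nat.card_eq_fintype_card (α := {w : A // w ≠ 1}), Fintype.card_subtype_compl, Fintype.card_subtype_eq,
      ← Nat.card_eq_fintype_card] at h

theorem conj_real {z : G} (hz : RealF Ω z) (g : G) : RealF Ω (g * z * g⁻¹) := by
  obtain ⟨hfix, x, hx, hxz⟩ := hz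
  refine ⟨fun c hc => hfix (g⁻¹ • c) ?_, g * x * g⁻¹, ?_, ?_⟩
  · rw [mul_smul, mul_smul, smul_eq_iff_eq_inv_smul] at hc
    exact hc
  · rw [← hx]; exact orderOf_injective (MulAut.conj g).toMonoidHom (MulAut.conj g).injective x
  · rw [show g * x * g⁻¹ * (g * z * g⁻¹) * (g * x * g⁻¹)⁻¹ = g * (x * z * x⁻¹) * g⁻¹ by group, hxz]
    group

end Cfsg.Agent.ZassSuz
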